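import Cfsg.Agent.H763.Co3.Rep

set_option autoImplicit false
set_option maxRecDepth 1000000
set_option exponentiation.threshold 5000

namespace Cfsg.Agent.H763.Co3.Dat

open Cfsg.Agent.H123.Cls Cfsg.Agent.H763.Cls

theorem bd0 : chkB 552 10 row 10 p0 [(false, 1)]
    [.cell [(false, 0)], .base 0 0 3, .cell [(true, 1), (false, 2), (false, 0)], .base 0 15 3, .cell [(true, 6), (true, 5), (true, 2), (false, 0), (false, 4), (false, 1)], .base 0 30 3, .cell [(true, 8), (false, 0), (false, 9), (false, 6), (false, 10), (false, 4), (false, 2), (true, 5)], .cnt 0 [3, 1, 5, 6, 0], .cell [(true, 16), (true, 15), (false, 12), (false, 10), (false, 14), (false, 6), (false, 11), (false, 4)], .cnt 0 [1, 2, 0], .cell [(true, 6), (false, 11), (true, 2), (false, 16), (false, 15)], .cnt 0 [1, 0], .cell [(true, 3), (true, 11), (true, 23), (false, 17)], .cnt 0 [0], .cell [(true, 11), (true, 2), (true, 24), (true, 6)], .cnt 0 [0], .cell [(true, 15), (true, 8), (true, 17), (false, 18), (true, 25), (false, 5)], .cnt 0 [0],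 .fin [29, 23, 7, 28, 2, 19, 20, 4, 0, 25, 21, 27, 11, 24, 10, 17, 16, 15, 14]] 699839 = true := by decide +kernel

theorem sg0 : chkSig 552 10 row 10 p0 key [0, 552, 12] = true := by decide +kernel

theorem ch0 : chkX 552 10 row 10 p0 0 = true := by decide +kernel

theorem cm0 : chkC 552 10 gens p0 [4] [3] = true := by decide +kernel

theorem fo0 : chk4 10 gens bs p0 [0, 0] [0, 0]
    [0, 3, 6] [0, 4, 6] = true := by decide +kernel

theorem qa0 : chkQ 10 gens bs p0 23 [0, 1, 2, 15, 3]
    [11, 7, 10, 9, 8, 4, 3, 12, 11] = true := by decide +kernel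

theorem qb0 : chkQ 10 gens bs p0 11 [1, 2, 5, 7]
    [15, 13, 10, 9, 4, 3, 12, 11] = true := by decide +kernel

theorem bd4 : chkB 552 10 row 10 p4 [(false, 1), (true, 1), (true, 2)]
    [.cell [(false, 1), (false, 0), (false, 2)], .base 0 7 5, .cell [(true, 7), (true, 4), (true, 1), (true, 0)], .base 0 9 5, .cell [(true, 11), (true, 9), (true, 8), (true, 6), (false, 0), (true, 1)], .cnt 0 [1, 2], .cell [(true, 0), (true, 13), (false, 5), (true, 11), (true, 14), (true, 6)], .cnt 0 [1, 0], .cell [(true, 19), (true, 0), (true, 4), (true, 14), (false, 13)], .cnt 0 [0], .cell [(true, 5), (true, 18), (false, 10), (true, 19), (false, 3), (false, 9)], .cnt 0 [0], .cell [(true, 23), (true, 7), (true, 20), (true, 18), (false, 11), (false, 14)], .cnt 0 [0], .fin [22, 23, 0, 7, 13, 19, 12, 2, 21, 16, 4, 14, 20, 10, 9, 15]] 2999 = true := by decide +kernel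

theorem sg4 : chkSig 552 10 row 10 p4 key [150, 2, 552] = true := by decide +kernel

theorem ch4 : chkX 552 10 row 10 p4 105000 = true := by decide +kernel

theorem cm4 : chkC 552 10 gens p4 [2, 4] [0, 3] = true := by decide +kernel

theorem fo4 : chk4 10 gens bs p4 [1, 2, 4] [0, 1, 5]
    [3, 1, 2, 3, 5] [0, 3, 1, 4, 11] = true := by decide +kernel

theorem qa4 : chkQ 10 gens bs p4 23 [7, 3, 5, 4]
    [12, 13, 11, 15, 2, 4, 0, 3, 12, 10, 11, 8] = true := by decide +kernel

theorem qb4 : chkQ 10 gens bs p4 11 [2, 4, 3, 15]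
    [7, 11, 0, 3, 12, 10, 11, 8] = true := by decide +kernel

theorem bd8 : chkB 552 10 row 10 p8 [(false, 1), (false, 5), (true, 1), (true, 2), (true, 3)]
    [.cell [(false, 0), (true, 2)], .base 0 9 12, .cell [(true, 15), (true, 11), (true, 0), (false, 7), (true, 14), (false, 2)], .cnt 0 [0], .cell [(true, 17), (false, 16), (true, 15), (false, 13), (false, 11), (true, 10)], .cnt 0 [0], .cell [(false, 18), (true, 15), (false, 7), (false, 10), (false, 19), (true, 11)], .cnt 0 [0], .cell [(false, 20), (true, 17), (true, 15), (false, 16), (true, 12), (false, 21)], .cnt 0 [0], .fin [19, 18, 22, 14, 10, 4, 23, 8, 16, 6, 12, 2, 0, 11, 15, 13, 17]] 59 = true := by decide +kernel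

theorem sg8 : chkSig 552 10 row 10 p8 key [210, 2, 12] = true := by decide +kernel

theorem ch8 : chkX 552 10 row 10 p8 305070 = true := by decide +kernel

theorem cm8 : chkC 552 10 gens p8 [2, 7] [3, 5] = true := by decide +kernel

theorem fo8 : chk4 10 gens bs p8 [2, 8, 7, 10] [7, 0, 7]
    [0, 10, 7, 0, 3, 5, 15, 2, 8] [0, 3, 5] = true := by decide +kernel

theorem qa8 : chkQ 10 gens bs p8 23 [2, 7, 3, 7, 5]
    [13, 15, 5, 15, 10, 13, 11] = true := by decide +kernel

theorem qb8 : chkQ 10 gens bs p8 11 [2, 6, 7, 13]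
    [5, 15, 14, 7, 3, 5, 15, 10, 13, 11] = true := by decide +kernel

theorem bd12 : chkB 552 10 row 10 p12 [(false, 3), (true, 1), (true, 2), (true, 3)]
    [.cell [(false, 0), (false, 1), (true, 2)], .base 0 30 12, .cell [(true, 8), (true, 6), (true, 3), (false, 9), (false, 14), (false, 15), (true, 13)], .cnt 0 [0], .cell [(true, 16), (true, 13), (true, 10), (true, 5), (true, 0), (true, 15)], .cnt 0 [0], .cell [(true, 19), (true, 18), (true, 17), (false, 15), (true, 2), (true, 12), (false, 13)], .cnt 0 [0], .fin [17, 16, 20, 13, 6, 2, 4, 7, 12, 0, 21, 9, 11, 15, 10, 8, 14]] 41 = true := by decide +kernel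

theorem sg12 : chkSig 552 10 row 10 p12 key [216, 6, 0] = true := by decide +kernel

theorem ch12 : chkX 552 10 row 10 p12 242004 = true := by decide +kernel

theorem cm12 : chkC 552 10 gens p12 [7, 3] [4, 7] = true := by decide +kernel

theorem fo12 : chk4 10 gens bs p12 [0, 0] [8, 7]
    [0, 15, 3, 6, 15] [4, 15, 11, 15, 1, 15] = true := by decide +kernel

theorem qa12 : chkQ 10 gens bs p12 23 [3, 4, 15, 13]
    [5, 7, 12, 11, 7, 3, 4, 7, 11, 15, 15, 12] = true := by decide +kernel

theorem qb12 : chkQ 10 gens bs p12 11 [1, 2, 3, 7]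
    [15, 11, 10, 9, 7, 3, 4, 7, 11, 15, 15, 12] = true := by decide +kernel

theorem bd16 : chkB 552 10 row 10 p16 [(false, 2), (true, 1), (true, 2), (true, 3)]
    [.cell [(true, 2), (false, 0)], .base 0 1 6, .cell [(true, 5), (false, 4), (true, 3), (true, 0), (false, 7), (false, 9), (true, 8)], .base 0 203 6, .cell [(true, 12), (false, 8), (false, 4), (false, 16), (true, 10), (false, 2), (true, 11)], .cnt 0 [0], .cell [(true, 16), (true, 14), (false, 10), (false, 6), (true, 11), (false, 18)], .cnt 0 [0], .cell [(true, 17), (true, 14), (false, 15), (false, 2), (true, 12), (true, 7), (true, 0)], .cnt 0 [0], .cell [(true, 17), (true, 7), (false, 18), (false, 16), (false, 9), (true, 13), (true, 4)], .cnt 0 [0], .fin [20, 22, 13, 24, 11, 6, 9, 4, 18, 2, 0, 10, 8, 19, 17, 25, 16, 15]] 215 = true := by decide +kernel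

theorem sg16 : chkSig 552 10 row 10 p16 key [228, 0, 30] = true := by decide +kernel

theorem ch16 : chkX 552 10 row 10 p16 618192 = true := by decide +kernel

theorem cm16 : chkC 552 10 gens p16 [2, 1] [7, 3] = true := by decide +kernel

theorem fo16 : chk4 10 gens bs p16 [2, 4, 14] [8, 7]
    [1, 7, 3, 7, 4, 7] [7, 4, 3, 1, 7, 0] = true := by decide +kernel

theorem qa16 : chkQ 10 gens bs p16 23 [3, 5, 15, 4]
    [12, 7, 13, 11, 2, 1, 7, 3, 9, 10, 11, 15] = true := by decide +kernel

theorem qb16 : chkQ 10 gens bs p16 11 [2, 4, 3, 15]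
    [7, 11, 12, 1, 7, 3, 9, 10, 11, 15] = true := by decide +kernel

theorem bd20 : chkB 552 10 row 10 p20 [(false, 2), (false, 4), (false, 6), (true, 1), (true, 2), (true, 3)]
    [.cell [(true, 0), (false, 1), (true, 2)], .base 0 50 12, .cell [(true, 11), (true, 6), (false, 15), (false, 14), (true, 4), (false, 3)], .cnt 0 [0], .cell [(true, 13), (false, 7), (false, 17), (false, 5), (false, 16), (true, 12), (true, 10), (true, 2)], .cnt 0 [0], .cell [(true, 15), (true, 7), (false, 19), (true, 5), (false, 18), (false, 12), (false, 21)], .cnt 0 [0], .fin [21, 17, 20, 7, 2, 4, 6, 13, 10, 14, 8, 11, 16, 0, 12, 15, 9, 19]] 47 = true := by decide +kernel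

theorem sg20 : chkSig 552 10 row 10 p20 key [276, 0, 4] = true := by decide +kernel

theorem ch20 : chkX 552 10 row 10 p20 403464 = true := by decide +kernel

theorem cm20 : chkC 552 10 gens p20 [4] [3, 7] = true := by decide +kernel

theorem fo20 : chk4 10 gens bs p20 [0, 3, 6] [0, 4, 14]
    [0, 3, 15, 3] [0, 3, 12, 15, 4, 11] = true := by decide +kernel

theorem qa20 : chkQ 10 gens bs p20 23 [5, 4, 7, 3]
    [11, 15, 12, 13, 4, 3, 7, 12, 15, 11] = true := by decide +kernel

theorem qb20 : chkQ 10 gens bs p20 11 [1, 2, 15, 3]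
    [11, 7, 10, 9, 4, 3, 7, 12, 15, 11] = true := by decide +kernel

theorem bd24 : chkB 552 10 row 10 p24 [(false, 2), (true, 1), (true, 2), (true, 3), (true, 4), (true, 6)]
    [.cell [(false, 0), (true, 2), (true, 4), (true, 3)], .base 0 5 12, .fin [11, 17, 15, 3, 0, 8, 2, 9, 4, 5, 1, 7, 13, 6, 10, 14]] 39 = true := by decide +kernel

theorem sg24 : chkSig 552 10 row 10 p24 key [280, 0, 72] = true := by decide +kernel

theorem ch24 : chkX 552 10 row 10 p24 412340 = true := by decide +kernel

theorem cm24 : chkC 552 10 gens p24 [2, 3, 5] [7] = true := by decide +kernel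

theorem fo24 : chk4 10 gens bs p24 [1, 2, 5] [0, 1, 3, 15, 3, 1]
    [0, 15] [7, 1, 2, 5, 15] = true := by decide +kernel

theorem qa24 : chkQ 10 gens bs p24 23 [2, 3, 4, 7, 5]
    [13, 15, 12, 5, 7, 13, 11, 10, 15] = true := by decide +kernel

theorem qb24 : chkQ 10 gens bs p24 11 [2, 6, 7, 13]
    [5, 15, 14, 3, 5, 7, 13, 11, 10, 15] = true := by decide +kernel

theorem bd28 : chkB 552 10 row 10 p28 [(false, 1), (false, 5), (true, 1), (true, 2), (true, 3)]
    [.cell [(true, 0), (false, 2)], .base 0 30 12, .cell [(false, 15), (true, 10), (false, 7), (true, 0), (true, 5), (true, 14), (true, 3)], .cnt 0 [0], .cell [(false, 17), (true, 13), (false, 10), (true, 7), (false, 5), (false, 6), (false, 12), (true, 9)], .cnt 0 [0], .fin [15, 12, 19, 8, 18, 4, 6, 14, 10, 11, 2, 0, 9, 5, 13, 17, 7]] 59 = true := by decide +kernel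

theorem sg28 : chkSig 552 10 row 10 p28 key [330, 2, 12] = true := by decide +kernel

theorem ch28 : chkX 552 10 row 10 p28 490350 = true := by decide +kernel

theorem cm28 : chkC 552 10 gens p28 [7, 4] [4, 5] = true := by decide +kernel

theorem fo28 : chk4 10 gens bs p28 [0, 15] [0, 1, 4]
    [0, 1, 5] [0, 4, 5, 15, 5, 4] = true := by decide +kernel

theorem qa28 : chkQ 10 gens bs p28 23 [7, 3, 5, 4]
    [12, 13, 11, 4, 4, 5, 12, 15, 13, 12] = true := by decide +kernel

theorem qb28 : chkQ 10 gens bs p28 11 [7, 1, 2, 5]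
    [13, 10, 9, 4, 4, 5, 12, 15, 13, 12] = true := by decide +kernel

theorem bd32 : chkB 552 10 row 10 p32 [(false, 2), (false, 4), (false, 6), (true, 1), (true, 2), (true, 4)]
    [.cell [(false, 2), (true, 1), (true, 0), (false, 3)], .base 0 5 12, .cell [(true, 18), (false, 15), (false, 11)], .cnt 0 [0], .cell [(true, 18), (false, 17), (false, 0), (true, 11), (false, 13)], .cnt 0 [0], .cell [(false, 18), (false, 2), (true, 15), (true, 13), (false, 11), (true, 19), (true, 12), (true, 6)], .cnt 0 [0], .cell [(true, 16), (true, 15), (false, 9), (false, 12), (true, 21), (true, 20), (false, 14)], .cnt 0 [0], .fin [19, 22, 15, 11, 6, 23, 0, 14, 13, 10, 4, 16, 12, 8, 24, 2, 9]] 71 = true := by decide +kernel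

theorem sg32 : chkSig 552 10 row 10 p32 key [340, 0, 6] = true := by decide +kernel

theorem ch32 : chkX 552 10 row 10 p32 700200 = true := by decide +kernel

theorem cm32 : chkC 552 10 gens p32 [0, 3] [2, 7] = true := by decide +kernel

theorem fo32 : chk4 10 gens bs p32 [0, 3, 5] [2, 0, 3, 2, 5]
    [2, 0, 11, 7, 3, 10] [2, 0, 15, 10] = true := by decide +kernel

theorem qa32 : chkQ 10 gens bs p32 23 [0, 3, 2, 7, 4]
    [12, 11, 8, 15, 10] = true := by decide +kernel

theorem qb32 : chkQ 10 gens bs p32 11 [0, 3, 2, 7, 6]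
    [14, 11, 8, 15, 10] = true := by decide +kernel

theorem bd36 : chkB 552 10 row 10 p36 [(false, 1), (false, 5), (true, 1), (true, 2), (true, 3)]
    [.cell [(false, 2), (false, 3)], .base 0 12 10, .cell [(true, 10), (true, 9), (true, 0), (false, 7), (false, 5), (false, 4)], .cnt 0 [1, 0], .cell [(true, 0), (true, 12), (false, 11), (false, 10), (false, 15), (true, 16)], .cnt 0 [0], .cell [(true, 3), (true, 10), (false, 5), (false, 13), (false, 9), (true, 14), (true, 18)], .cnt 0 [0], .cell [(true, 21), (true, 19), (false, 16), (true, 14), (true, 15), (true, 5), (true, 0)], .cnt 0 [0], .fin [18, 15, 7, 0, 17, 2, 4, 16, 22, 9, 13, 12, 21, 10, 20, 14]] 119 = true := by decide +kernel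

theorem sg36 : chkSig 552 10 row 10 p36 key [390, 2, 552] = true := by decide +kernel

theorem ch36 : chkX 552 10 row 10 p36 673920 = true := by decide +kernel

theorem cm36 : chkC 552 10 gens p36 [4, 5] [3, 6] = true := by decide +kernel

theorem fo36 : chk4 10 gens bs p36 [0, 1, 4] [0, 1, 5]
    [0, 5, 4, 6, 5] [0, 4, 3, 5, 12] = true := by decide +kernel

theorem qa36 : chkQ 10 gens bs p36 23 [3, 5, 4, 7]
    [15, 12, 13, 11, 4, 5, 3, 6, 13, 12, 14, 11] = true := by decide +kernel

theorem qb36 : chkQ 10 gens bs p36 11 [2, 3, 15, 12]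
    [4, 7, 11, 10, 4, 5, 3, 6, 13, 12, 14, 11] = true := by decide +kernel

theorem bd40 : chkB 552 10 row 10 p40 [(false, 1)]
    [.cell [(false, 0)], .base 0 7 2, .cell [(true, 1), (true, 0), (false, 3)], .base 0 12 2, .cell [(true, 4), (false, 3), (false, 1), (false, 0)], .base 0 52 2, .cell [(true, 2), (false, 1), (false, 0)], .base 0 404 2, .cell [(true, 8), (false, 7), (false, 4), (false, 3), (true, 1), (true, 0)], .cnt 0 [3, 1, 5, 2, 6], .cell [(true, 2), (false, 6), (true, 13), (false, 18), (false, 9)], .cnt 0 [2, 1, 3, 0], .cell [(true, 23), (true, 6), (true, 3), (true, 21)], .cnt 0 [1, 2], .cell [(true, 12), (true, 5), (true, 1), (true, 15), (true, 17)], .cnt 0 [1, 0], .cell [(true, 14), (true, 17), (false, 24), (true, 1), (true, 4)], .cnt 0 [0], .cell [(true, 8), (true, 15), (false, 29)], .cnt 0 [0], .fin [31, 30, 5, 2, 27, 28, 8, 0, 25, 24, 22, 21, 7, 12, 11, 16, 33, 19, 17, 13]] 5806079 = true := by decide +kernel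

theorem sg40 : chkSig 552 10 row 10 p40 key [480, 72, 552] = true := by decide +kernel

theorem ch40 : chkX 552 10 row 10 p40 11767680 = true := by decide +kernel

theorem cm40 : chkC 552 10 gens p40 [4] [1] = true := by decide +kernel

theorem fo40 : chk4 10 gens bs p40 [0, 15] [0, 0]
    [0, 15] [1, 4, 6] = true := by decide +kernel

theorem qa40 : chkQ 10 gens bs p40 23 [4, 3, 5, 7]
    [15, 13, 11, 1, 12, 9] = true := by decide +kernel

theorem qb40 : chkQ 10 gens bs p40 11 [1, 2, 3, 7]
    [15, 11, 10, 9, 4, 1, 12, 9] = true := by decide +kernel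

end Cfsg.Agent.H763.Co3.Dat
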