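import Cfsg.Agent.H763.Co3.Rep

set_option autoImplicit false
set_option maxRecDepth 1000000
set_option exponentiation.threshold 5000

namespace Cfsg.Agent.H763.Co3.Dat

open Cfsg.Agent.H123.Cls Cfsg.Agent.H763.Cls

theorem bd1 : chkB 552 10 row 10 p1 []
    [.cell [], .base 0 0 1, .base 0 1 1, .cell [(true, 1), (true, 0)], .base 0 4 1, .cell [(true, 1), (true, 0)], .base 0 5 1, .cell [(true, 4), (false, 5), (false, 2), (false, 0)], .base 0 17 1, .cell [(true, 1), (false, 0)], .cnt 0 [3, 1, 0, 5], .cell [(true, 2), (false, 9), (false, 5)], .base 0 3 1, .cell [(true, 7), (false, 13), (false, 0), (false, 11), (false, 5), (false, 14), (false, 9), (false, 2)], .cnt 0 [1, 2, 0], .cell [(true, 1), (true, 17), (false, 18), (true, 15), (true, 13), (true, 11)], .cnt 0 [2, 1, 3, 0], .cell [(true, 2), (true, 7), (true, 18), (true, 14), (true, 23), (false, 16)], .cnt 0 [1, 0], .cell [(true, 22), (true, 6), (true, 10), (true, 1), (false, 17), (true, 21)], .cnt 0 [1, 0], .cell [(true, 18), (true, 9), (false,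 4), (false, 3)], .cnt 0 [0], .cell [(true, 20), (true, 9), (true, 15), (true, 6)], .cnt 0 [0], .cell [(true, 23), (true, 12), (true, 8), (true, 26), (false, 17)], .cnt 0 [0], .fin [35, 34, 10, 7, 30, 32, 2, 28, 4, 21, 0, 15, 19, 18, 9, 13, 6, 14, 12]] 991533311999 = true := by decide +kernel

theorem sg1 : chkSig 552 10 row 10 p1 key [0, 552, 552] = true := by decide +kernel

theorem ch1 : chkX 552 10 row 10 p1 0 = true := by decide +kernel

theorem cm1 : chkC 552 10 gens p1 [1] [1] = true := by decide +kernel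

theorem fo1 : chk4 10 gens bs p1 [0, 0] [0, 0]
    [0, 0] [0, 0] = true := by decide +kernel

theorem qa1 : chkQ 10 gens bs p1 23 [3, 4, 7, 5]
    [13, 15, 12, 11] = true := by decide +kernel

theorem qb1 : chkQ 10 gens bs p1 11 [1, 2, 3, 7]
    [15, 11, 10, 9] = true := by decide +kernel

theorem bd5 : chkB 552 10 row 10 p5 [(false, 2), (false, 3), (true, 1)]
    [.cell [(true, 0), (false, 2)], .base 0 31 6, .cell [(true, 1), (false, 4), (false, 2), (false, 7)], .base 0 19 6, .cell [(true, 12), (true, 10), (true, 0), (false, 7), (true, 2), (false, 14), (true, 3)], .cnt 0 [1, 2], .cell [(true, 1), (true, 13), (false, 14), (false, 7), (false, 12), (false, 6), (false, 18)], .cnt 0 [0], .cell [(true, 3), (true, 17), (false, 12), (false, 16), (true, 8), (false, 5), (false, 10)], .cnt 0 [0], .cell [(true, 22), (true, 5), (true, 12), (false, 0), (true, 17)], .cnt 0 [0], .cell [(true, 7), (true, 21), (false, 13), (false, 20), (true, 4)], .cnt 0 [0], .fin [23, 22, 16, 6, 14, 2, 12, 9, 13, 21, 4, 15, 8,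 25, 20, 11, 19, 0]] 2591 = true := by decide +kernel

theorem sg5 : chkSig 552 10 row 10 p5 key [156, 72, 12] = true := by decide +kernel

theorem ch5 : chkX 552 10 row 10 p5 151632 = true := by decide +kernel

theorem cm5 : chkC 552 10 gens p5 [4, 3, 2] [3, 1] = true := by decide +kernel

theorem fo5 : chk4 10 gens bs p5 [0, 3, 5] [0, 1, 5]
    [3, 1, 2, 3, 6] [2, 4, 14] = true := by decide +kernel

theorem qa5 : chkQ 10 gens bs p5 23 [4, 7, 3, 13]
    [5, 11, 15, 3, 2, 3, 1, 10, 11, 12, 9, 11] = true := by decide +kernel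

theorem qb5 : chkQ 10 gens bs p5 11 [1, 5, 15, 2]
    [10, 7, 13, 9, 4, 3, 2, 3, 1, 10, 11, 12, 9, 11] = true := by decide +kernel

theorem bd9 : chkB 552 10 row 10 p9 [(false, 3), (true, 1), (true, 2)]
    [.cell [(false, 1), (false, 0), (false, 2)], .base 0 9 9, .cell [(true, 11), (true, 8), (false, 4), (true, 0), (true, 7), (false, 2), (false, 10), (false, 6)], .base 0 73 9, .fin [18, 14, 21, 6, 0, 15, 20, 5, 8, 7, 10, 16, 3, 4, 13, 17, 12]] 323 = true := by decide +kernel

theorem sg9 : chkSig 552 10 row 10 p9 key [216, 12, 0] = true := by decide +kernel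

theorem ch9 : chkX 552 10 row 10 p9 110808 = true := by decide +kernel

theorem cm9 : chkC 552 10 gens p9 [7, 3] [7, 1] = true := by decide +kernel

theorem fo9 : chk4 10 gens bs p9 [0, 0] [0, 0]
    [4, 15, 1, 15, 3, 15] [7, 1, 7, 3, 7, 4] = true := by decide +kernel

theorem qa9 : chkQ 10 gens bs p9 23 [3, 4, 7, 5]
    [13, 15, 12, 11, 7, 3, 7, 1, 11, 15, 9, 15] = true := by decide +kernel

theorem qb9 : chkQ 10 gens bs p9 11 [7, 1, 2, 5]
    [13, 10, 9, 3, 7, 1, 11, 15, 9, 15] = true := by decide +kernel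

theorem bd13 : chkB 552 10 row 10 p13 [(false, 2), (true, 1), (true, 2), (true, 3)]
    [.cell [(true, 2), (true, 1), (false, 0)], .base 0 20 12, .cell [(true, 11), (true, 8), (true, 4), (false, 9), (false, 3), (false, 13)], .cnt 0 [0], .cell [(true, 13), (true, 9), (true, 12), (false, 10), (false, 4), (true, 5)], .cnt 0 [0], .fin [15, 14, 18, 17, 6, 5, 10, 11, 4, 13, 12, 2, 7, 8, 9, 0]] 43 = true := by decide +kernel

theorem sg13 : chkSig 552 10 row 10 p13 key [220, 0, 2] = true := by decide +kernel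

theorem ch13 : chkX 552 10 row 10 p13 268664 = true := by decide +kernel

theorem cm13 : chkC 552 10 gens p13 [5, 0] [7, 2] = true := by decide +kernel

theorem fo13 : chk4 10 gens bs p13 [1, 2, 5] [0, 15]
    [6, 15, 10, 7, 6] [7, 1, 2, 5, 15] = true := by decide +kernel

theorem qa13 : chkQ 10 gens bs p13 23 [3, 15, 4, 5]
    [13, 12, 7, 11, 5, 0, 7, 2, 8, 13, 10, 15] = true := by decide +kernel

theorem qb13 : chkQ 10 gens bs p13 11 [5, 14, 7, 10]
    [2, 15, 6, 0, 7, 2, 8, 13, 10, 15] = true := by decide +kernel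

theorem bd17 : chkB 552 10 row 10 p17 [(true, 1)]
    [.base 0 0 2, .cell [(false, 1), (false, 2), (false, 0)], .base 0 15 2, .cell [(true, 3), (false, 4), (false, 1), (false, 0), (false, 5)], .base 0 201 2, .cell [(true, 7), (true, 3), (false, 6), (false, 0), (false, 4), (false, 1), (false, 8)], .base 0 362 2, .cell [(true, 11), (true, 10), (false, 9), (false, 3), (false, 0), (true, 7), (true, 6)], .cnt 0 [1, 2], .cell [(true, 1), (true, 13), (true, 10), (true, 12), (false, 7), (false, 14)], .cnt 0 [3, 1, 5, 2, 4], .cell [(true, 2), (true, 15), (false, 9), (false, 18), (false, 10), (false, 6)], .cnt 0 [0], .cell [(true, 5), (false, 17), (true, 14), (false, 12), (false, 21)], .cnt 0 [0], .cell [(true, 4), (true, 11), (false, 16), (false, 0), (false, 24), (false, 19)], .cnt 0 [0], .cell [(true, 6), (true, 13), (false, 15), (false, 26), (false, 21), (true, 25)], .cnt 0 [0], .cell [(true, 9), (true, 15), (true, 28), (true, 24), (false, 0)], .cnt 0 [0], .fin [29, 30, 8, 6, 4, 23, 25, 20, 17, 19, 26,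 10, 11, 0, 2, 16, 14, 22, 28]] 380159 = true := by decide +kernel

theorem sg17 : chkSig 552 10 row 10 p17 key [264, 0, 552] = true := by decide +kernel

theorem ch17 : chkX 552 10 row 10 p17 3506976 = true := by decide +kernel

theorem cm17 : chkC 552 10 gens p17 [7, 1] [2, 7, 2, 4] = true := by decide +kernel

theorem fo17 : chk4 10 gens bs p17 [0, 0] [0, 0]
    [0, 0] [1, 7, 1, 7, 6, 7] = true := by decide +kernel

theorem qa17 : chkQ 10 gens bs p17 23 [3, 4, 7, 5]
    [13, 15, 12, 11, 7, 1, 2, 7, 2, 4, 9, 15, 12, 10, 15, 10] = true := by decide +kernel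

theorem qb17 : chkQ 10 gens bs p17 11 [7, 3, 7, 5]
    [13, 15, 11, 1, 2, 7, 2, 4, 9, 15, 12, 10, 15, 10] = true := by decide +kernel

theorem bd21 : chkB 552 10 row 10 p21 [(true, 1), (true, 2), (true, 3)]
    [.cell [(true, 2), (false, 1), (true, 0)], .base 0 3 12, .cell [(true, 11), (true, 9), (false, 15), (false, 13), (true, 5), (true, 10), (true, 8), (true, 4)], .cnt 0 [0], .cell [(true, 8), (true, 6), (false, 9), (false, 11), (true, 15), (true, 7)], .cnt 0 [0], .fin [19, 18, 15, 6, 12, 0, 17, 11, 5, 10, 9, 2, 4, 14, 8, 7, 13]] 45 = true := by decide +kernel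

theorem sg21 : chkSig 552 10 row 10 p21 key [276, 0, 0] = true := by decide +kernel

theorem ch21 : chkX 552 10 row 10 p21 387458 = true := by decide +kernel

theorem cm21 : chkC 552 10 gens p21 [1, 7] [3, 6, 2] = true := by decide +kernel

theorem fo21 : chk4 10 gens bs p21 [0, 15] [1, 2, 4]
    [3, 15, 2, 12, 7, 3] [0, 1, 3, 1, 6] = true := by decide +kernel

theorem qa21 : chkQ 10 gens bs p21 23 [3, 4, 7, 5]
    [13, 15, 12, 11, 1, 7, 3, 6, 2, 15, 9, 10, 14, 11] = true := by decide +kernel

theorem qb21 : chkQ 10 gens bs p21 11 [1, 2, 15, 5]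
    [13, 7, 10, 7, 3, 6, 2, 15, 9, 10, 14, 11] = true := by decide +kernel

theorem bd25 : chkB 552 10 row 10 p25 [(false, 2), (true, 1), (true, 2), (true, 3), (true, 4), (true, 6)]
    [.cell [(false, 0), (true, 2), (true, 4), (true, 3)], .base 0 5 12, .fin [11, 17, 15, 3, 0, 8, 9, 2, 7, 6, 10, 4, 13, 5, 1, 14]] 39 = true := by decide +kernel

theorem sg25 : chkSig 552 10 row 10 p25 key [280, 0, 72] = true := by decide +kernel

theorem ch25 : chkX 552 10 row 10 p25 411540 = true := by decide +kernel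

theorem cm25 : chkC 552 10 gens p25 [7] [2, 3, 5] = true := by decide +kernel

theorem fo25 : chk4 10 gens bs p25 [0, 15] [0, 1, 2, 0, 5]
    [0, 1, 3, 15, 3, 1] [1, 2, 5] = true := by decide +kernel

theorem qa25 : chkQ 10 gens bs p25 23 [3, 4, 15, 13]
    [5, 7, 12, 11, 7, 2, 3, 5, 15, 13, 11, 10] = true := by decide +kernel

theorem qb25 : chkQ 10 gens bs p25 11 [1, 2, 3, 7]
    [15, 11, 10, 9, 7, 2, 3, 5, 15, 13, 11, 10] = true := by decide +kernel

theorem bd29 : chkB 552 10 row 10 p29 [(false, 1), (true, 1), (true, 2), (true, 3)]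
    [.cell [(false, 2), (true, 1), (true, 0)], .base 0 18 11, .cell [(true, 11), (true, 9), (true, 8), (false, 5), (true, 6), (true, 1)], .cnt 0 [0], .cell [(true, 13), (true, 12), (false, 4), (true, 11), (false, 8)], .cnt 0 [0], .cell [(false, 18), (false, 17), (true, 14), (true, 0), (false, 12), (false, 5), (false, 13), (true, 8)], .cnt 0 [0], .fin [16, 14, 20, 19, 11, 8, 0, 9, 4, 6, 13, 12, 2, 7, 10, 15]] 43 = true := by decide +kernel

theorem sg29 : chkSig 552 10 row 10 p29 key [330, 2, 2] = true := by decide +kernel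

theorem ch29 : chkX 552 10 row 10 p29 676896 = true := by decide +kernel

theorem cm29 : chkC 552 10 gens p29 [7] [2, 5] = true := by decide +kernel

theorem fo29 : chk4 10 gens bs p29 [8, 7] [0, 15]
    [0, 10, 7, 0, 7] [2, 0, 13, 15, 2, 13] = true := by decide +kernel

theorem qa29 : chkQ 10 gens bs p29 23 [7, 4, 3, 13]
    [5, 11, 12, 2, 5, 15, 13, 10] = true := by decide +kernel

theorem qb29 : chkQ 10 gens bs p29 11 [7, 1, 2, 5]
    [13, 10, 9, 2, 5, 15, 13, 10] = true := by decide +kernel

theorem bd33 : chkB 552 10 row 10 p33 [(false, 2), (false, 4), (true, 1), (true, 2), (true, 3)]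
    [.cell [(true, 2), (true, 0), (false, 3)], .base 0 0 8, .cell [(false, 9), (true, 11), (true, 7), (false, 4), (true, 3), (true, 5)], .base 0 317 8, .cell [(false, 19), (false, 16), (true, 12), (true, 15), (true, 14), (false, 7)], .cnt 0 [0], .cell [(true, 23), (true, 18), (false, 16), (false, 6), (true, 17)], .cnt 0 [0], .cell [(true, 21), (true, 20), (false, 18), (true, 6), (false, 19), (true, 17)], .cnt 0 [0], .fin [22, 21, 20, 24, 12, 10, 11, 19, 15, 17, 8, 2, 4, 9, 0, 26, 25, 18]] 383 = true := by decide +kernel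

theorem sg33 : chkSig 552 10 row 10 p33 key [344, 0, 16] = true := by decide +kernel

theorem ch33 : chkX 552 10 row 10 p33 1342008 = true := by decide +kernel

theorem cm33 : chkC 552 10 gens p33 [7, 3] [1, 2, 6] = true := by decide +kernel

theorem fo33 : chk4 10 gens bs p33 [3, 1, 4, 3, 15] [3, 1, 2, 3, 14]
    [3, 1, 4, 3, 15] [1, 2, 6] = true := by decide +kernel

theorem qa33 : chkQ 10 gens bs p33 23 [5, 4, 7, 11]
    [3, 15, 12, 13, 7, 3, 1, 2, 6, 11, 15, 14, 10, 9] = true := by decide +kernel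

theorem qb33 : chkQ 10 gens bs p33 11 [7, 3, 2, 4]
    [12, 10, 1, 2, 6, 11, 15, 14, 10, 9] = true := by decide +kernel

theorem bd37 : chkB 552 10 row 10 p37 [(false, 1), (false, 2), (true, 1)]
    [.cell [(true, 0), (false, 1)], .base 0 0 4, .cell [(false, 5), (false, 3), (true, 2), (false, 1), (false, 6), (true, 0)], .base 0 61 4, .cell [(true, 8), (true, 3), (false, 5), (false, 2), (true, 1), (true, 0)], .cnt 0 [1, 0], .cell [(false, 13), (true, 6), (false, 8), (true, 10), (false, 5), (true, 4), (false, 1)], .cnt 0 [1, 2, 0], .cell [(true, 1), (true, 15), (true, 5), (true, 8), (false, 13), (true, 14)], .cnt 0 [0], .cell [(true, 6), (true, 17), (true, 4), (true, 9), (false, 20), (false, 10), (false, 0)], .cnt 0 [0], .cell [(true, 6), (false, 13), (true, 9), (true, 11), (false, 2), (false, 18), (false, 12)], .cnt 0 [0], .cell [(true, 6), (false, 19), (true, 10), (false, 0), (true, 21), (true, 23), (false, 20)], .cnt 0 [0], .fin [23, 22, 13, 6, 20, 2, 0, 4, 16, 18, 15, 17, 9, 10, 21, 24, 25,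 8]] 3071 = true := by decide +kernel

theorem sg37 : chkSig 552 10 row 10 p37 key [408, 16, 72] = true := by decide +kernel

theorem ch37 : chkX 552 10 row 10 p37 4061664 = true := by decide +kernel

theorem cm37 : chkC 552 10 gens p37 [4] [7] = true := by decide +kernel

theorem fo37 : chk4 10 gens bs p37 [0, 0] [0, 15]
    [1, 4, 6] [0, 4, 15, 4] = true := by decide +kernel

theorem qa37 : chkQ 10 gens bs p37 23 [4, 7, 3, 5]
    [13, 11, 12, 15] = true := by decide +kernel

theorem qb37 : chkQ 10 gens bs p37 11 [2, 4, 5, 7]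
    [15, 13, 12, 10, 4, 7, 12, 15] = true := by decide +kernel

theorem bd41 : chkB 552 10 row 10 p41 [(false, 1), (true, 1)]
    [.base 0 0 3, .cell [(false, 3), (true, 2), (false, 0), (true, 1)], .cnt 0 [6, 3, 0, 2], .cell [(true, 7), (false, 6), (false, 5), (false, 2), (true, 8)], .base 0 3 3, .cell [(true, 6), (false, 11), (false, 1), (true, 0)], .base 0 47 3, .cell [(true, 8), (true, 15), (true, 2), (false, 4), (true, 0), (false, 6), (true, 1)], .cnt 0 [1, 2, 0], .cnt 7 [2, 1, 3], .cell [(true, 4), (true, 13), (false, 8), (true, 20), (false, 0), (true, 21)], .cnt 0 [0], .cell [(true, 7), (true, 23), (false, 14), (true, 13), (false, 24), (true, 25), (false, 19)], .cnt 0 [0], .cell [(true, 19), (true, 9), (true, 17), (false, 12), (true, 2), (false, 5), (true, 16), (true, 15)], .cnt 0 [0], .fin [28, 27, 17, 0, 13, 14, 2, 19, 4, 15, 26, 18, 10, 11, 6, 7, 29, 21, 23, 24]] 58319 = true := by decide +kernel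

theorem sg41 : chkSig 552 10 row 10 p41 key [486, 552, 30] = true := by decide +kernel

theorem ch41 : chkX 552 10 row 10 p41 5708070 = true := by decide +kernel

theorem cm41 : chkC 552 10 gens p41 [2] [7] = true := by decide +kernel

theorem fo41 : chk4 10 gens bs p41 [0, 15] [8, 7]
    [2, 0, 7, 2] [2, 8, 15, 2] = true := by decide +kernel

theorem qa41 : chkQ 10 gens bs p41 23 [2, 7, 11, 7, 11]
    [3, 15, 3, 10, 15] = true := by decide +kernel

theorem qb41 : chkQ 10 gens bs p41 11 [2, 7, 1, 5]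
    [13, 9, 10, 15] = true := by decide +kernel

end Cfsg.Agent.H763.Co3.Dat
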