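import Cfsg.Agent.H763.Co3.Rep

set_option autoImplicit false
set_option maxRecDepth 1000000
set_option exponentiation.threshold 5000

namespace Cfsg.Agent.H763.Co3.Dat

open Cfsg.Agent.H123.Cls Cfsg.Agent.H763.Cls

theorem bd2 : chkB 552 10 row 10 p2 [(false, 2), (true, 1)]
    [.cell [(false, 1)], .base 0 5 4, .cell [(true, 3), (true, 2), (false, 1), (true, 0)], .base 0 76 4, .cell [(true, 8), (true, 1), (false, 3), (false, 0), (false, 7), (true, 2)], .base 0 26 4, .cell [(true, 12), (true, 3), (false, 7), (false, 8), (false, 11), (true, 10), (false, 0), (false, 13)], .cnt 0 [0], .cell [(true, 13), (true, 12), (false, 15), (false, 14), (false, 5), (true, 4), (false, 2), (true, 0)], .cnt 0 [0], .cell [(true, 15), (true, 14), (false, 17), (false, 16), (true, 7), (true, 6), (false, 4), (false, 0)], .cnt 0 [0], .cell [(true, 15), (false, 8), (true, 11), (false, 7)], .cnt 0 [0], .cell [(true, 21), (false, 4), (false, 18), (false, 0), (false, 2), (false, 11), (false, 16)], .cnt 0 [0], .fin [23, 21, 22,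 8, 0, 20, 12, 11, 16, 4, 17, 2, 15, 6, 13, 10, 25, 18]] 46079 = true := by decide +kernel

theorem sg2 : chkSig 552 10 row 10 p2 key [40, 0, 72] = true := by decide +kernel

theorem ch2 : chkX 552 10 row 10 p2 82080 = true := by decide +kernel

theorem cm2 : chkC 552 10 gens p2 [3, 0] [2, 4, 1] = true := by decide +kernel

theorem fo2 : chk4 10 gens bs p2 [0, 0] [0, 1, 4]
    [2, 0, 3, 2, 6] [0, 7, 14, 7, 6, 7] = true := by decide +kernel

theorem qa2 : chkQ 10 gens bs p2 23 [4, 3, 13, 15]
    [7, 5, 11, 12, 3, 0, 2, 4, 1, 8, 11, 9, 12, 10] = true := by decide +kernel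

theorem qb2 : chkQ 10 gens bs p2 11 [1, 2, 13, 15]
    [7, 5, 10, 9, 3, 0, 2, 4, 1, 8, 11, 9, 12, 10] = true := by decide +kernel

theorem bd6 : chkB 552 10 row 10 p6 [(false, 2), (false, 4), (false, 6), (true, 1), (true, 2), (true, 3)]
    [.cell [(true, 2), (false, 0), (false, 3)], .base 0 87 12, .cell [(true, 15), (true, 11), (false, 10), (true, 14), (true, 0), (true, 7), (false, 8)], .cnt 0 [0], .cell [(false, 15), (true, 16), (true, 13), (true, 10), (true, 4), (false, 8)], .cnt 0 [0], .cell [(true, 22), (false, 15), (true, 0)], .cnt 0 [0], .fin [17, 20, 7, 0, 4, 19, 14, 10, 2, 6, 13, 12, 11, 21, 16, 9, 8]] 47 = true := by decide +kernel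

theorem sg6 : chkSig 552 10 row 10 p6 key [164, 0, 4] = true := by decide +kernel

theorem ch6 : chkX 552 10 row 10 p6 206040 = true := by decide +kernel

theorem cm6 : chkC 552 10 gens p6 [3, 7] [4, 6] = true := by decide +kernel

theorem fo6 : chk4 10 gens bs p6 [0, 3, 6] [8, 7]
    [0, 1, 7, 9] [0, 3, 4, 3, 14] = true := by decide +kernel

theorem qa6 : chkQ 10 gens bs p6 23 [3, 5, 15, 4]
    [12, 7, 13, 7, 4, 6, 15, 11, 14, 12] = true := by decide +kernel

theorem qb6 : chkQ 10 gens bs p6 11 [3, 7, 1, 2]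
    [10, 9, 4, 6, 15, 11, 14, 12] = true := by decide +kernel

theorem bd10 : chkB 552 10 row 10 p10 [(true, 1)]
    [.base 0 1 3, .cell [(true, 2), (false, 1), (false, 0), (false, 3)], .base 0 4 3, .cell [(true, 7), (true, 6), (true, 1), (true, 2), (true, 4), (false, 0)], .cnt 0 [3, 4, 5, 6, 1, 7, 0], .cell [(true, 5), (false, 15), (false, 14), (true, 10), (true, 8)], .cnt 0 [1, 0], .cell [(true, 1), (true, 16), (false, 15), (true, 11), (false, 13), (false, 18), (true, 12), (false, 9), (false, 8)], .cnt 0 [1, 0], .cell [(true, 3), (true, 14), (false, 20), (true, 1), (false, 21), (false, 19), (true, 15)], .cnt 0 [0], .cell [(true, 12), (true, 3), (true, 6), (true, 16), (false, 22), (true, 20), (false, 0)], .cnt 0 [0], .cell [(true, 11), (false, 22), (true, 8), (true, 23)], .cnt 0 [0], .fin [26, 25, 10, 7, 0, 4, 27, 22, 2, 24, 20, 21, 16, 18, 12, 15, 14, 9, 6, 13]] 9071 = true := by decide +kernel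

theorem sg10 : chkSig 552 10 row 10 p10 key [216, 552, 0] = true := by decide +kernel

theorem ch10 : chkX 552 10 row 10 p10 1102248 = true := by decide +kernel

theorem cm10 : chkC 552 10 gens p10 [2] [0, 7] = true := by decide +kernel

theorem fo10 : chk4 10 gens bs p10 [0, 0] [0, 0]
    [0, 0, 15, 8] [1, 2, 4, 6] = true := by decide +kernel

theorem qa10 : chkQ 10 gens bs p10 23 [2, 0, 7, 1, 3]
    [11, 9, 10, 15, 8] = true := by decide +kernel

theorem qb10 : chkQ 10 gens bs p10 11 [2, 0, 7, 3, 6]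
    [14, 11, 10, 15, 8] = true := by decide +kernel

theorem bd14 : chkB 552 10 row 10 p14 [(false, 2), (true, 1), (true, 2), (true, 3)]
    [.cell [(true, 2), (true, 1), (false, 0)], .base 0 20 12, .cell [(false, 14), (false, 11), (false, 8), (false, 4), (true, 9), (false, 15), (false, 13)], .cnt 0 [0], .cell [(false, 16), (true, 13), (true, 10), (true, 6), (true, 4), (false, 12)], .cnt 0 [0], .fin [15, 14, 18, 17, 6, 5, 4, 10, 11, 7, 13, 12, 8, 2, 9, 19, 0]] 43 = true := by decide +kernel

theorem sg14 : chkSig 552 10 row 10 p14 key [220, 0, 2] = true := by decide +kernel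

theorem ch14 : chkX 552 10 row 10 p14 267740 = true := by decide +kernel

theorem cm14 : chkC 552 10 gens p14 [7, 2] [5, 0] = true := by decide +kernel

theorem fo14 : chk4 10 gens bs p14 [0, 15] [0, 0]
    [2, 4, 6] [4, 6, 13, 7, 5] = true := by decide +kernel

theorem qa14 : chkQ 10 gens bs p14 23 [3, 13, 7, 4]
    [12, 15, 5, 11, 7, 2, 5, 0, 10, 15, 8, 13] = true := by decide +kernel

theorem qb14 : chkQ 10 gens bs p14 11 [7, 1, 2, 3]
    [11, 10, 9, 2, 5, 0, 10, 15, 8, 13] = true := by decide +kernel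

theorem bd18 : chkB 552 10 row 10 p18 [(false, 1), (false, 2), (false, 3), (false, 6), (true, 1), (true, 3), (true, 5)]
    [.cell [(true, 2), (true, 0), (false, 3)], .base 0 25 12, .cell [(true, 16), (true, 14), (true, 11), (false, 8), (true, 7)], .cnt 0 [0], .cell [(true, 15), (true, 12), (false, 7), (false, 11), (true, 9), (false, 10)], .cnt 0 [0], .cell [(false, 18), (true, 19), (true, 15), (true, 2), (true, 7), (false, 20), (true, 12)], .cnt 0 [0], .cell [(true, 21), (true, 10), (false, 11), (false, 15), (true, 4), (false, 19), (true, 20), (true, 2)], .cnt 0 [0], .cell [(true, 21), (true, 19), (true, 6), (true, 2), (false, 0), (true, 8)], .cnt 0 [0], .fin [21, 25, 23, 19, 2, 4, 6, 17, 10, 20, 24, 8, 18, 16, 15, 0, 28]] 95 = true := by decide +kernel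

theorem sg18 : chkSig 552 10 row 10 p18 key [264, 16, 12] = true := by decide +kernel

theorem ch18 : chkX 552 10 row 10 p18 475584 = true := by decide +kernel

theorem cm18 : chkC 552 10 gens p18 [3] [4, 7] = true := by decide +kernel

theorem fo18 : chk4 10 gens bs p18 [0, 1, 4] [0, 1, 12]
    [0, 3, 7, 1, 7, 3] [0, 7, 1, 7] = true := by decide +kernel

theorem qa18 : chkQ 10 gens bs p18 23 [3, 4, 7, 5]
    [13, 11, 15, 12] = true := by decide +kernel

theorem qb18 : chkQ 10 gens bs p18 11 [3, 2, 14, 15]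
    [7, 6, 10, 4, 7, 11, 15, 12] = true := by decide +kernel

theorem bd22 : chkB 552 10 row 10 p22 [(true, 1), (true, 2), (true, 3)]
    [.cell [(true, 2), (false, 1), (true, 0)], .base 0 3 12, .cell [(true, 11), (true, 9), (false, 8), (true, 5), (false, 15), (true, 4), (true, 10)], .cnt 0 [0], .cell [(true, 12), (true, 7), (false, 16), (true, 6), (false, 17), (false, 15)], .cnt 0 [0], .fin [19, 18, 15, 0, 6, 12, 17, 2, 7, 11, 8, 5, 14, 13, 9, 10]] 45 = true := by decide +kernel

theorem sg22 : chkSig 552 10 row 10 p22 key [276, 0, 0] = true := by decide +kernel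

theorem ch22 : chkX 552 10 row 10 p22 387090 = true := by decide +kernel

theorem cm22 : chkC 552 10 gens p22 [3, 6, 2] [1, 7] = true := by decide +kernel

theorem fo22 : chk4 10 gens bs p22 [7, 0, 7] [3, 7, 10, 15, 3]
    [3, 1, 2, 3, 6] [0, 7, 12, 7] = true := by decide +kernel

theorem qa22 : chkQ 10 gens bs p22 23 [5, 7, 4, 3]
    [11, 12, 15, 13, 3, 6, 2, 1, 7, 10, 14, 11, 15, 9] = true := by decide +kernel

theorem qb22 : chkQ 10 gens bs p22 11 [3, 2, 4, 7]
    [15, 12, 10, 6, 2, 1, 7, 10, 14, 11, 15, 9] = true := by decide +kernel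

theorem bd26 : chkB 552 10 row 10 p26 [(false, 1), (false, 2), (false, 3), (true, 1), (true, 2)]
    [.cell [(false, 1), (false, 2)], .base 0 0 6, .cell [(false, 7), (false, 5), (true, 3), (true, 4), (false, 9), (true, 0)], .base 0 146 6, .cell [(true, 13), (true, 12), (false, 1), (false, 0), (false, 5), (false, 9), (true, 4)], .cnt 0 [1, 0], .cell [(true, 1), (true, 14), (false, 11), (true, 15), (true, 5), (true, 17)], .cnt 0 [0], .cell [(true, 3), (false, 17), (true, 14), (true, 13), (false, 12), (true, 9), (true, 19)], .cnt 0 [0], .cell [(true, 20), (true, 5), (true, 18), (true, 17), (false, 14), (false, 2)], .cnt 0 [0], .cell [(true, 6), (true, 21), (false, 18), (true, 20), (true, 4)], .cnt 0 [0], .fin [23, 26, 15, 9, 21, 6, 12, 13, 4, 0, 2, 19, 18, 11, 22, 20, 27]] 431 = true := by decide +kernel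

theorem sg26 : chkSig 552 10 row 10 p26 key [318, 72, 30] = true := by decide +kernel

theorem ch26 : chkX 552 10 row 10 p26 1521774 = true := by decide +kernel

theorem cm26 : chkC 552 10 gens p26 [7] [2, 1] = true := by decide +kernel

theorem fo26 : chk4 10 gens bs p26 [0, 0] [0, 0]
    [2, 4, 14] [1, 15, 2, 4, 7, 1] = true := by decide +kernel

theorem qa26 : chkQ 10 gens bs p26 23 [3, 5, 7, 4]
    [12, 15, 13, 11, 7, 2, 1, 15, 9, 10] = true := by decide +kernel

theorem qb26 : chkQ 10 gens bs p26 11 [7, 1, 2, 5]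
    [13, 10, 9, 2, 1, 15, 9, 10] = true := by decide +kernel

theorem bd30 : chkB 552 10 row 10 p30 [(false, 1), (true, 1), (true, 2), (true, 3)]
    [.cell [(false, 2), (true, 1), (true, 0)], .base 0 18 11, .cell [(true, 11), (true, 9), (true, 8), (false, 5), (true, 6), (true, 1)], .cnt 0 [0], .cell [(true, 13), (true, 10), (true, 0), (true, 5), (true, 7)], .cnt 0 [0], .cell [(true, 15), (true, 14), (true, 4), (true, 11), (true, 9), (false, 8)], .cnt 0 [0], .fin [16, 14, 20, 19, 0, 8, 11, 4, 6, 13, 2, 7, 15, 10, 12, 9]] 43 = true := by decide +kernel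

theorem sg30 : chkSig 552 10 row 10 p30 key [330, 2, 2] = true := by decide +kernel

theorem ch30 : chkX 552 10 row 10 p30 681560 = true := by decide +kernel

theorem cm30 : chkC 552 10 gens p30 [2, 5] [7] = true := by decide +kernel

theorem fo30 : chk4 10 gens bs p30 [0, 1, 4] [1, 2, 4]
    [5, 7, 10, 15, 5] [0, 15] = true := by decide +kernel

theorem qa30 : chkQ 10 gens bs p30 23 [3, 5, 12, 15]
    [7, 4, 13, 11, 2, 5, 7, 13, 10, 15] = true := by decide +kernel

theorem qb30 : chkQ 10 gens bs p30 11 [2, 5, 7, 1]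
    [9, 13, 10, 15] = true := by decide +kernel

theorem bd34 : chkB 552 10 row 10 p34 [(false, 1), (false, 3), (true, 1), (true, 2), (true, 4)]
    [.cell [(false, 1), (false, 3)], .base 0 3 9, .cell [(true, 9), (true, 7), (true, 5), (false, 8), (false, 3), (true, 2), (true, 6), (true, 1)], .cnt 0 [2, 1, 3], .cell [(true, 2), (true, 13), (false, 12), (false, 5), (true, 10), (false, 8)], .cnt 0 [1, 0], .cell [(true, 3), (false, 18), (false, 13), (false, 11), (true, 10)], .cnt 0 [0], .cell [(true, 6), (false, 19), (true, 16), (false, 9), (true, 17), (true, 12)], .cnt 0 [0], .fin [19, 18, 5, 2, 16, 14, 0, 11, 12, 15, 22, 17, 9, 7, 4, 8, 23]] 161 = true := by decide +kernel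

theorem sg34 : chkSig 552 10 row 10 p34 key [378, 12, 6] = true := by decide +kernel

theorem ch34 : chkX 552 10 row 10 p34 660474 = true := by decide +kernel

theorem cm34 : chkC 552 10 gens p34 [7] [3, 7, 6] = true := by decide +kernel

theorem fo34 : chk4 10 gens bs p34 [8, 7] [0, 15]
    [0, 1, 4] [0, 3, 7, 14, 7, 3] = true := by decide +kernel

theorem qa34 : chkQ 10 gens bs p34 23 [7, 3, 6, 5, 12]
    [4, 13, 14, 7, 6, 15, 14, 15, 11] = true := by decide +kernel

theorem qb34 : chkQ 10 gens bs p34 11 [1, 2, 7, 5]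
    [13, 15, 10, 9, 7, 3, 7, 6, 15, 14, 15, 11] = true := by decide +kernel

theorem bd38 : chkB 552 10 row 10 p38 [(false, 1), (true, 1), (true, 2)]
    [.base 2 24 1, .cell [(true, 3), (true, 0)], .cnt 0 [2, 3, 1, 0], .cell [(false, 7), (true, 3), (false, 8)], .base 0 3 5, .cell [(true, 5), (false, 3), (true, 0), (true, 4), (true, 2)], .cnt 0 [2, 3, 0], .cell [(true, 11), (false, 8), (true, 6), (true, 5), (false, 2)], .cnt 0 [1, 0], .cell [(false, 19), (true, 5), (true, 0), (false, 11), (false, 16), (false, 10)], .cnt 0 [2, 3, 1, 4], .cell [(true, 0), (false, 25), (true, 15), (false, 6)], .cnt 0 [0], .cell [(true, 10), (true, 5), (false, 27), (false, 22)], .cnt 0 [0], .fin [27, 2, 10, 18, 20, 0, 14, 19, 16, 17, 6, 7, 24, 25, 29, 23, 5, 28, 4, 9, 13, 12]] 599 = true := by decide +kernel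

theorem sg38 : chkSig 552 10 row 10 p38 key [420, 12, 552] = true := by decide +kernel

theorem ch38 : chkX 552 10 row 10 p38 1732200 = true := by decide +kernel

theorem cm38 : chkC 552 10 gens p38 [0, 7] [5] = true := by decide +kernel

theorem fo38 : chk4 10 gens bs p38 [0, 0] [8, 7]
    [0, 0] [0, 13, 7, 5] = true := by decide +kernel

theorem qa38 : chkQ 10 gens bs p38 23 [0, 7, 1, 2, 3]
    [11, 10, 9, 5, 15, 8, 13] = true := by decide +kernel

theorem qb38 : chkQ 10 gens bs p38 11 [0, 7, 1, 3, 5]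
    [13, 11, 9, 5, 15, 8, 13] = true := by decide +kernel

end Cfsg.Agent.H763.Co3.Dat
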