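import Cfsg.Agent.H763.Co3.Rep

set_option autoImplicit false
set_option maxRecDepth 1000000
set_option exponentiation.threshold 5000

namespace Cfsg.Agent.H763.Co3.Dat

open Cfsg.Agent.H123.Cls Cfsg.Agent.H763.Cls

theorem bd3 : chkB 552 10 row 10 p3 [(false, 2), (false, 4), (true, 1), (true, 2), (true, 3)]
    [.cell [(true, 1), (false, 2), (false, 0)], .base 0 29 8, .cell [(true, 9), (false, 7), (true, 5), (true, 4), (false, 1)], .base 0 335 8, .cell [(false, 19), (false, 16), (false, 15), (false, 13), (false, 9), (true, 7)], .cnt 0 [0], .cell [(true, 22), (false, 18), (true, 4), (false, 9), (true, 15)], .cnt 0 [0], .cell [(true, 22), (true, 10), (false, 5), (false, 20), (true, 18), (false, 25)], .cnt 0 [0], .fin [22, 20, 21, 19, 17, 8, 9, 18, 16, 7, 15, 23, 4, 10, 2, 0]] 383 = true := by decide +kernel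

theorem sg3 : chkSig 552 10 row 10 p3 key [120, 0, 16] = true := by decide +kernel

theorem ch3 : chkX 552 10 row 10 p3 156696 = true := by decide +kernel

theorem cm3 : chkC 552 10 gens p3 [6, 3] [4, 1, 5] = true := by decide +kernel

theorem fo3 : chk4 10 gens bs p3 [0, 1, 6] [0, 15]
    [6, 15, 2, 6, 7, 6] [1, 2, 5] = true := by decide +kernel

theorem qa3 : chkQ 10 gens bs p3 23 [0, 1, 3, 2, 15]
    [7, 10, 11, 9, 8, 6, 3, 4, 1, 5, 11, 14, 13, 9, 12] = true := by decide +kernel

theorem qb3 : chkQ 10 gens bs p3 11 [6, 15, 2, 3]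
    [11, 10, 7, 3, 4, 1, 5, 11, 14, 13, 9, 12] = true := by decide +kernel

theorem bd7 : chkB 552 10 row 10 p7 [(false, 2), (false, 6), (true, 1), (true, 5)]
    [.cell [(true, 1), (false, 2)], .base 0 5 12, .cell [(true, 11), (true, 8), (false, 9), (false, 2), (false, 7), (true, 0)], .base 0 50 12, .cell [(true, 25), (true, 19), (false, 20), (false, 11), (false, 15), (true, 16)], .cnt 0 [0], .cell [(true, 25), (true, 18), (false, 24), (true, 23), (false, 28), (false, 10)], .cnt 0 [0], .fin [28, 27, 24, 23, 11, 8, 0, 6, 20, 4, 21, 13, 2, 14, 25, 29, 26, 15]] 287 = true := by decide +kernel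

theorem sg7 : chkSig 552 10 row 10 p7 key [172, 0, 12] = true := by decide +kernel

theorem ch7 : chkX 552 10 row 10 p7 124560 = true := by decide +kernel

theorem cm7 : chkC 552 10 gens p7 [2, 5] [7, 3] = true := by decide +kernel

theorem fo7 : chk4 10 gens bs p7 [0, 0] [1, 2, 5]
    [14, 7, 3, 7, 14, 7] [4, 15, 6, 15, 5, 15] = true := by decide +kernel

theorem qa7 : chkQ 10 gens bs p7 23 [3, 4, 7, 13]
    [5, 15, 12, 11, 2, 5, 7, 3, 13, 10, 11, 15] = true := by decide +kernel

theorem qb7 : chkQ 10 gens bs p7 11 [2, 5, 7, 12]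
    [4, 3, 13, 10, 11, 15] = true := by decide +kernel

theorem bd11 : chkB 552 10 row 10 p11 [(true, 1), (true, 2), (true, 3)]
    [.cell [(true, 0), (false, 1)], .base 0 0 6, .cell [(true, 9), (true, 5), (false, 2), (false, 0), (false, 8), (false, 3), (false, 1)], .cnt 0 [2, 4, 1, 5], .cell [(true, 2), (true, 11), (false, 9), (true, 5)], .cnt 0 [1, 0], .cell [(true, 6), (true, 16), (true, 13), (false, 9), (false, 15), (true, 8)], .cnt 0 [0], .cell [(true, 6), (false, 12), (true, 18), (false, 17), (true, 10), (true, 0), (true, 13)], .cnt 0 [0], .cell [(true, 20), (true, 5), (false, 0), (true, 16), (true, 15), (false, 21), (true, 17)], .cnt 0 [0], .cell [(true, 10), (false, 14), (true, 7), (true, 0), (true, 22)], .cnt 0 [0], .fin [21, 23, 2, 9, 16, 24, 6, 20, 0, 4, 18, 17, 8, 14, 13, 25, 12, 19, 11]] 143 = true := by decide +kernel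

theorem sg11 : chkSig 552 10 row 10 p11 key [216, 0, 0] = true := by decide +kernel

theorem ch11 : chkX 552 10 row 10 p11 198720 = true := by decide +kernel

theorem cm11 : chkC 552 10 gens p11 [2, 7] [1, 0] = true := by decide +kernel

theorem fo11 : chk4 10 gens bs p11 [0, 0] [0, 0]
    [0, 4, 14] [1, 7, 2, 12, 15, 1] = true := by decide +kernel

theorem qa11 : chkQ 10 gens bs p11 23 [2, 7, 11, 7, 11]
    [3, 15, 3, 1, 0, 15, 10, 8, 9] = true := by decide +kernel

theorem qb11 : chkQ 10 gens bs p11 11 [2, 7, 1, 5]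
    [13, 0, 15, 10, 8, 9] = true := by decide +kernel

theorem bd15 : chkB 552 10 row 10 p15 [(false, 2), (true, 1), (true, 2), (true, 3)]
    [.cell [(false, 1), (true, 0), (false, 3)], .base 0 74 10, .cell [(false, 12), (true, 13), (true, 9), (false, 6), (false, 4), (true, 5)], .cnt 0 [0], .cell [(true, 15), (true, 13), (false, 11), (true, 8), (true, 7), (true, 0)], .cnt 0 [0], .cell [(true, 12), (true, 11), (true, 9), (false, 6), (false, 15), (false, 7), (false, 4), (true, 2)], .cnt 0 [0], .fin [15, 12, 19, 10, 8, 0, 13, 7, 4, 17, 14, 9, 11, 2, 6]] 39 = true := by decide +kernel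

theorem sg15 : chkSig 552 10 row 10 p15 key [224, 0, 552] = true := by decide +kernel

theorem ch15 : chkX 552 10 row 10 p15 414736 = true := by decide +kernel

theorem cm15 : chkC 552 10 gens p15 [6, 2] [7, 5] = true := by decide +kernel

theorem fo15 : chk4 10 gens bs p15 [0, 4, 6] [0, 3, 6]
    [3, 7, 2, 15, 3] [15, 1, 2, 4, 7] = true := by decide +kernel

theorem qa15 : chkQ 10 gens bs p15 23 [3, 7, 4, 13]
    [5, 12, 15, 11, 6, 2, 7, 5, 10, 14, 13, 15] = true := by decide +kernel

theorem qb15 : chkQ 10 gens bs p15 11 [6, 7, 2, 3]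
    [11, 10, 15, 2, 7, 5, 10, 14, 13, 15] = true := by decide +kernel

theorem bd19 : chkB 552 10 row 10 p19 [(false, 1), (false, 2), (false, 7), (true, 1), (true, 2), (true, 3)]
    [.cell [(false, 1), (true, 2), (true, 0), (false, 4)], .base 0 48 12, .cell [(true, 16), (false, 15), (true, 13), (true, 11), (false, 7), (false, 9)], .cnt 0 [0], .cell [(true, 17), (false, 15), (true, 16), (true, 13), (true, 0), (false, 11), (true, 9)], .cnt 0 [0], .cell [(true, 15), (true, 13), (false, 12), (false, 10), (false, 19), (false, 17), (false, 9)], .cnt 0 [0], .fin [17, 21, 19, 0, 9, 4, 12, 14, 8, 7, 11, 2, 13, 16, 15, 6, 22]] 27 = true := by decide +kernel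

theorem sg19 : chkSig 552 10 row 10 p19 key [270, 2, 6] = true := by decide +kernel

theorem ch19 : chkX 552 10 row 10 p19 487740 = true := by decide +kernel

theorem cm19 : chkC 552 10 gens p19 [7] [5, 4, 3] = true := by decide +kernel

theorem fo19 : chk4 10 gens bs p19 [0, 15] [0, 1, 5]
    [0, 3, 15, 3] [0, 1, 13] = true := by decide +kernel

theorem qa19 : chkQ 10 gens bs p19 23 [4, 3, 5, 15]
    [7, 13, 11, 12, 7, 5, 4, 3, 15, 11, 12, 13] = true := by decide +kernel

theorem qb19 : chkQ 10 gens bs p19 11 [7, 2, 5, 6]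
    [14, 13, 10, 5, 4, 3, 15, 11, 12, 13] = true := by decide +kernel

theorem bd23 : chkB 552 10 row 10 p23 [(false, 3), (false, 5), (true, 1), (true, 2), (true, 3)]
    [.cell [(false, 0), (true, 1), (false, 4)], .base 0 80 12, .cell [(true, 11), (true, 3), (false, 1), (false, 8), (true, 15), (true, 2), (false, 6)], .cnt 0 [0], .cell [(false, 15), (true, 12), (true, 9), (false, 13), (false, 11), (true, 10), (false, 16)], .cnt 0 [0], .cell [(false, 17), (true, 14), (true, 7), (false, 9), (false, 11), (true, 5), (true, 8)], .cnt 0 [0], .fin [21, 17, 20, 4, 6, 11, 14, 2, 9, 10, 13, 7, 15, 0, 19, 16, 12]] 29 = true := by decide +kernel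

theorem sg23 : chkSig 552 10 row 10 p23 key [276, 12, 30] = true := by decide +kernel

theorem ch23 : chkX 552 10 row 10 p23 539010 = true := by decide +kernel

theorem cm23 : chkC 552 10 gens p23 [6, 3] [7, 2] = true := by decide +kernel

theorem fo23 : chk4 10 gens bs p23 [0, 1, 4] [0, 1, 12]
    [0, 3, 7, 12, 7, 3] [0, 6, 7, 4, 7, 6] = true := by decide +kernel

theorem qa23 : chkQ 10 gens bs p23 23 [3, 4, 7, 5]
    [13, 15, 12, 11, 6, 3, 7, 2, 11, 14, 10, 15] = true := by decide +kernel

theorem qb23 : chkQ 10 gens bs p23 11 [6, 13, 15, 2]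
    [10, 7, 5, 3, 7, 2, 11, 14, 10, 15] = true := by decide +kernel

theorem bd27 : chkB 552 10 row 10 p27 [(false, 1), (false, 2), (false, 4), (true, 1), (true, 2), (true, 3)]
    [.cell [(false, 2), (true, 0), (true, 1)], .base 0 0 8, .cell [(true, 6), (false, 4), (false, 1), (true, 11), (true, 0), (false, 5), (true, 9), (true, 2)], .cnt 0 [1, 0], .cell [(true, 1), (true, 7), (false, 5), (false, 10), (true, 6), (true, 14), (false, 8), (true, 4)], .cnt 0 [1, 0], .cell [(true, 3), (true, 12), (false, 7), (true, 1), (true, 13)], .cnt 0 [0], .cell [(true, 16), (true, 6), (true, 15), (true, 8), (false, 14)], .cnt 0 [0], .cell [(true, 18), (true, 8), (false, 0), (false, 14), (true, 16)], .cnt 0 [0], .fin [19, 21, 7, 2, 18, 17, 10, 0, 23, 15, 4, 14, 22, 16, 12, 13, 6, 25, 9]] 63 = true := by decide +kernel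

theorem sg27 : chkSig 552 10 row 10 p27 key [324, 4, 16] = true := by decide +kernel

theorem ch27 : chkX 552 10 row 10 p27 1070608 = true := by decide +kernel

theorem cm27 : chkC 552 10 gens p27 [2] [3, 7] = true := by decide +kernel

theorem fo27 : chk4 10 gens bs p27 [0, 1, 4] [0, 1, 6]
    [2, 4, 14] [3, 7, 2, 15, 3] = true := by decide +kernel

theorem qa27 : chkQ 10 gens bs p27 23 [2, 3, 7, 6, 5]
    [13, 14, 10, 15, 11] = true := by decide +kernel

theorem qb27 : chkQ 10 gens bs p27 11 [2, 3, 7, 1]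
    [9, 10, 15, 11] = true := by decide +kernel

theorem bd31 : chkB 552 10 row 10 p31 [(false, 6), (true, 1), (true, 2), (true, 3), (true, 4)]
    [.cell [(true, 1), (true, 2), (false, 0)], .base 0 95 12, .cell [(true, 7), (false, 10), (false, 6), (false, 5), (false, 0), (false, 14)], .cnt 0 [0], .cell [(true, 15), (true, 13), (false, 12), (false, 4), (false, 11), (true, 18), (false, 17)], .cnt 0 [0], .fin [15, 14, 17, 8, 13, 7, 12, 2, 0, 20, 5, 11, 4, 10, 6, 9]] 35 = true := by decide +kernel

theorem sg31 : chkSig 552 10 row 10 p31 key [336, 0, 0] = true := by decide +kernel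

theorem ch31 : chkX 552 10 row 10 p31 404820 = true := by decide +kernel

theorem cm31 : chkC 552 10 gens p31 [7, 3] [2, 0] = true := by decide +kernel

theorem fo31 : chk4 10 gens bs p31 [0, 0] [0, 1, 14]
    [8, 7, 3, 14, 7] [2, 7, 4, 7, 14, 7] = true := by decide +kernel

theorem qa31 : chkQ 10 gens bs p31 23 [7, 3, 5, 4]
    [12, 13, 2, 0, 11, 15, 8, 10] = true := by decide +kernel

theorem qb31 : chkQ 10 gens bs p31 11 [1, 10, 7, 13]
    [5, 15, 2, 9, 7, 3, 2, 0, 11, 15, 8, 10] = true := by decide +kernel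

theorem bd35 : chkB 552 10 row 10 p35 [(false, 1), (true, 1), (true, 2), (true, 3)]
    [.cell [(false, 1), (true, 2), (true, 0)], .base 0 29 7, .cell [(true, 6), (false, 5), (true, 2), (true, 10), (false, 1), (true, 9), (true, 0)], .cnt 0 [2, 1, 3], .cell [(true, 0), (false, 14), (false, 13), (true, 9), (false, 7)], .cnt 0 [1, 0], .cell [(true, 4), (false, 16), (true, 10), (false, 9), (false, 15)], .cnt 0 [0], .cell [(true, 16), (true, 7), (true, 2), (false, 12), (false, 0)], .cnt 0 [0], .cell [(true, 9), (true, 5), (false, 17), (true, 14), (false, 15), (false, 13)], .cnt 0 [0], .fin [19, 18, 7, 0, 4, 15, 2, 13, 23, 21, 14, 11, 22, 9, 10, 16, 17, 6]] 83 = true := by decide +kernel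

theorem sg35 : chkSig 552 10 row 10 p35 key [378, 6, 6] = true := by decide +kernel

theorem ch35 : chkX 552 10 row 10 p35 1055460 = true := by decide +kernel

theorem cm35 : chkC 552 10 gens p35 [7] [5, 3] = true := by decide +kernel

theorem fo35 : chk4 10 gens bs p35 [0, 0] [0, 0]
    [0, 15] [0, 3, 13, 15, 3, 5] = true := by decide +kernel

theorem qa35 : chkQ 10 gens bs p35 23 [7, 3, 5, 4]
    [12, 13, 11, 5, 3, 15, 11, 13] = true := by decide +kernel

theorem qb35 : chkQ 10 gens bs p35 11 [1, 2, 7, 5]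
    [13, 15, 10, 9, 7, 5, 3, 15, 11, 13] = true := by decide +kernel

theorem bd39 : chkB 552 10 row 10 p39 [(false, 1), (false, 3)]
    [.cell [(true, 0), (false, 1)], .base 0 0 3, .cell [(true, 2), (true, 1), (false, 0), (false, 4)], .base 0 7 6, .cell [(true, 9), (true, 1), (false, 0), (false, 8), (false, 7), (false, 4)], .base 0 127 6, .cell [(true, 16), (true, 11), (false, 15), (false, 14), (false, 5), (true, 7), (false, 3)], .cnt 0 [1, 0], .cell [(true, 18), (true, 10), (false, 19), (false, 17), (true, 14), (false, 6), (false, 13), (false, 8)], .cnt 0 [0], .cell [(true, 22), (true, 21), (true, 8), (false, 19), (true, 15), (true, 10)], .cnt 0 [0], .cell [(true, 5), (false, 23), (true, 16), (false, 7), (true, 21), (false, 17)], .cnt 0 [0], .fin [25, 21, 7, 2, 23, 17, 11, 13, 24, 18, 0, 10, 20, 4, 14, 27, 19]] 8639 = true := by decide +kernel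

theorem sg39 : chkSig 552 10 row 10 p39 key [480, 72, 12] = true := by decide +kernel

theorem ch39 : chkX 552 10 row 10 p39 881280 = true := by decide +kernel

theorem cm39 : chkC 552 10 gens p39 [5, 2] [4] = true := by decide +kernel

theorem fo39 : chk4 10 gens bs p39 [0, 0] [0, 0]
    [0, 1, 4] [0, 1, 13] = true := by decide +kernel

theorem qa39 : chkQ 10 gens bs p39 23 [5, 6, 7, 3, 15]
    [7, 11, 15, 14, 2, 4, 10, 13, 12] = true := by decide +kernel

theorem qb39 : chkQ 10 gens bs p39 11 [2, 6, 7, 11]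
    [3, 15, 14, 10, 5, 2, 4, 10, 13, 12] = true := by decide +kernel

end Cfsg.Agent.H763.Co3.Dat
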