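import Cfsg.Agent.H763.Co3.Model
import Cfsg.Agent.H763.Co3.C0
import Cfsg.Agent.H763.Co3.C1
import Cfsg.Agent.H763.Co3.C2
import Cfsg.Agent.H763.Co3.C3
import Cfsg.Agent.SporRec.Co3.Model

/-!
# The classes of `Co3` (helper763)

`cov` : the 42 classes; `ore_co3` (S2443), `four_co3` (S4171), `pw_co3` (S2465), `sq_co3` (S2453).
-/

set_option autoImplicit false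
set_option maxRecDepth 1000000
set_option exponentiation.threshold 5000

namespace Cfsg.Agent.H763.Co3.Fin

open Cfsg Cfsg.Agent.H123.Cls Cfsg.Agent.H763.Cls Cfsg.Agent.H763.Co3.Dat Cfsg.Agent.Lib.BitNet
open Cfsg.Agent.H763.Co3.Model (N A2 A_conj A_le card_A card_N tabs_ok eq_one_of_base ψ ψ_injective)

theorem base_ok : Base N bs := by
  refine ⟨?_, fun g hg h => eq_one_of_base hg h⟩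
  intro b hb
  simp only [bs, List.mem_cons, List.not_mem_nil, or_false] at hb
  rcases hb with rfl | rfl | rfl | rfl | rfl | rfl <;> norm_num

/-- the certificates of an entry -/
structure Ok (x : ℕ × ℕ × List ℕ) : Prop where
  bd : ∃ l L, chkB 552 10 row 10 x.1 l L x.2.1 = true
  sg : ∃ c cs, x.2.2 = c :: cs ∧ chkX 552 10 row 10 x.1 c = true ∧ chkSig 552 10 row 10 x.1 key cs = true ∧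
    cs.length = key.length
  cm : ∃ a b, chkC 552 10 gens x.1 a b = true
  fo : ∃ a b c d, chk4 10 gens bs x.1 a b c d = true
  qa : ∃ a b, chkQ 10 gens bs x.1 23 a b = true
  qb : ∃ a b, chkQ 10 gens bs x.1 11 a b = true

theorem D_ok : ∀ x ∈ D, Ok x :=
  List.forall_mem_cons.2 ⟨⟨⟨_, _, bd0⟩, ⟨_, _, rfl, ch0, sg0, rfl⟩, ⟨_, _, cm0⟩, ⟨_, _, _, _, fo0⟩, ⟨_, _, qa0⟩, ⟨_, _, qb0⟩⟩, List.forall_mem_cons.2 ⟨⟨⟨_, _, bd1⟩, ⟨_, _, rfl, ch1, sg1, rfl⟩, ⟨_, _, cm1⟩, ⟨_, _, _, _, fo1⟩, ⟨_, _, qa1⟩, ⟨_, _, qb1⟩⟩, List.forall_mem_cons.2 ⟨⟨⟨_, _, bd2⟩, ⟨_, _, rfl, ch2, sg2, rfl⟩, ⟨_, _, cm2⟩, ⟨_, _, _, _, fo2⟩, ⟨_, _, qa2⟩, ⟨_, _, qb2⟩⟩, List.forall_mem_cons.2 ⟨⟨⟨_, _, bd3⟩, ⟨_, _, rfl, ch3, sg3, rfl⟩, ⟨_, _, cm3⟩,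 ⟨_, _, _, _, fo3⟩, ⟨_, _, qa3⟩, ⟨_, _, qb3⟩⟩, 
  List.forall_mem_cons.2 ⟨⟨⟨_, _, bd4⟩, ⟨_, _, rfl, ch4, sg4, rfl⟩, ⟨_, _, cm4⟩, ⟨_, _, _, _, fo4⟩, ⟨_, _, qa4⟩, ⟨_, _, qb4⟩⟩, List.forall_mem_cons.2 ⟨⟨⟨_, _, bd5⟩, ⟨_, _, rfl, ch5, sg5, rfl⟩, ⟨_, _, cm5⟩, ⟨_, _, _, _, fo5⟩, ⟨_, _, qa5⟩, ⟨_, _, qb5⟩⟩, List.forall_mem_cons.2 ⟨⟨⟨_, _, bd6⟩, ⟨_, _, rfl, ch6, sg6, rfl⟩, ⟨_, _, cm6⟩, ⟨_, _, _, _, fo6⟩, ⟨_, _, qa6⟩, ⟨_, _, qb6⟩⟩, List.forall_mem_cons.2 ⟨⟨⟨_, _, bd7⟩, ⟨_, _, rfl, ch7, sg7, rfl⟩, ⟨_, _, cm7⟩, ⟨_, _, _, _, fo7⟩, ⟨_, _, qa7⟩, ⟨_, _, qb7⟩⟩, 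
  List.forall_mem_cons.2 ⟨⟨⟨_, _, bd8⟩, ⟨_, _, rfl, ch8, sg8, rfl⟩, ⟨_, _, cm8⟩, ⟨_, _, _, _, fo8⟩, ⟨_, _, qa8⟩, ⟨_, _, qb8⟩⟩, List.forall_mem_cons.2 ⟨⟨⟨_, _, bd9⟩, ⟨_, _, rfl, ch9, sg9, rfl⟩, ⟨_, _, cm9⟩, ⟨_, _, _, _, fo9⟩, ⟨_, _, qa9⟩, ⟨_, _, qb9⟩⟩, List.forall_mem_cons.2 ⟨⟨⟨_, _, bd10⟩, ⟨_, _, rfl, ch10, sg10, rfl⟩, ⟨_, _, cm10⟩, ⟨_, _, _, _, fo10⟩, ⟨_, _, qa10⟩, ⟨_, _, qb10⟩⟩, List.forall_mem_cons.2 ⟨⟨⟨_, _, bd11⟩, ⟨_, _, rfl, ch11, sg11, rfl⟩, ⟨_, _, cm11⟩, ⟨_, _, _, _, fo11⟩, ⟨_, _, qa11⟩, ⟨_, _, qb11⟩⟩, 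
  List.forall_mem_cons.2 ⟨⟨⟨_, _, bd12⟩, ⟨_, _, rfl, ch12, sg12, rfl⟩, ⟨_, _, cm12⟩, ⟨_, _, _, _, fo12⟩, ⟨_, _, qa12⟩, ⟨_, _, qb12⟩⟩, List.forall_mem_cons.2 ⟨⟨⟨_, _, bd13⟩, ⟨_, _, rfl, ch13, sg13, rfl⟩, ⟨_, _, cm13⟩, ⟨_, _, _, _, fo13⟩, ⟨_, _, qa13⟩, ⟨_, _, qb13⟩⟩, List.forall_mem_cons.2 ⟨⟨⟨_, _, bd14⟩, ⟨_, _, rfl, ch14, sg14, rfl⟩, ⟨_, _, cm14⟩, ⟨_, _, _, _, fo14⟩, ⟨_, _, qa14⟩, ⟨_, _, qb14⟩⟩, List.forall_mem_cons.2 ⟨⟨⟨_, _, bd15⟩, ⟨_, _, rfl, ch15, sg15, rfl⟩, ⟨_, _, cm15⟩, ⟨_, _, _, _, fo15⟩, ⟨_, _, qa15⟩, ⟨_, _, qb15⟩⟩, 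
  List.forall_mem_cons.2 ⟨⟨⟨_, _, bd16⟩, ⟨_, _, rfl, ch16, sg16, rfl⟩, ⟨_, _, cm16⟩, ⟨_, _, _, _, fo16⟩, ⟨_, _, qa16⟩, ⟨_, _, qb16⟩⟩, List.forall_mem_cons.2 ⟨⟨⟨_, _, bd17⟩, ⟨_, _, rfl, ch17, sg17, rfl⟩, ⟨_, _, cm17⟩, ⟨_, _, _, _, fo17⟩, ⟨_, _, qa17⟩, ⟨_, _, qb17⟩⟩, List.forall_mem_cons.2 ⟨⟨⟨_, _, bd18⟩, ⟨_, _, rfl, ch18, sg18, rfl⟩, ⟨_, _, cm18⟩, ⟨_, _, _, _, fo18⟩, ⟨_, _, qa18⟩, ⟨_, _, qb18⟩⟩, List.forall_mem_cons.2 ⟨⟨⟨_, _, bd19⟩, ⟨_, _, rfl, ch19, sg19, rfl⟩, ⟨_, _, cm19⟩, ⟨_, _, _, _, fo19⟩, ⟨_, _, qa19⟩, ⟨_, _, qb19⟩⟩, 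
  List.forall_mem_cons.2 ⟨⟨⟨_, _, bd20⟩, ⟨_, _, rfl, ch20, sg20, rfl⟩, ⟨_, _, cm20⟩, ⟨_, _, _, _, fo20⟩, ⟨_, _, qa20⟩, ⟨_, _, qb20⟩⟩, List.forall_mem_cons.2 ⟨⟨⟨_, _, bd21⟩, ⟨_, _, rfl, ch21, sg21, rfl⟩, ⟨_, _, cm21⟩, ⟨_, _, _, _, fo21⟩, ⟨_, _, qa21⟩, ⟨_, _, qb21⟩⟩, List.forall_mem_cons.2 ⟨⟨⟨_, _, bd22⟩, ⟨_, _, rfl, ch22, sg22, rfl⟩, ⟨_, _, cm22⟩, ⟨_, _, _, _, fo22⟩, ⟨_, _, qa22⟩, ⟨_, _, qb22⟩⟩, List.forall_mem_cons.2 ⟨⟨⟨_, _, bd23⟩, ⟨_, _, rfl, ch23, sg23, rfl⟩, ⟨_, _, cm23⟩, ⟨_, _, _, _, fo23⟩, ⟨_, _, qa23⟩, ⟨_, _, qb23⟩⟩, 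
  List.forall_mem_cons.2 ⟨⟨⟨_, _, bd24⟩, ⟨_, _, rfl, ch24, sg24, rfl⟩, ⟨_, _, cm24⟩, ⟨_, _, _, _, fo24⟩, ⟨_, _, qa24⟩, ⟨_, _, qb24⟩⟩, List.forall_mem_cons.2 ⟨⟨⟨_, _, bd25⟩, ⟨_, _, rfl, ch25, sg25, rfl⟩, ⟨_, _, cm25⟩, ⟨_, _, _, _, fo25⟩, ⟨_, _, qa25⟩, ⟨_, _, qb25⟩⟩, List.forall_mem_cons.2 ⟨⟨⟨_, _, bd26⟩, ⟨_, _, rfl, ch26, sg26, rfl⟩, ⟨_, _, cm26⟩, ⟨_, _, _, _, fo26⟩, ⟨_, _, qa26⟩, ⟨_, _, qb26⟩⟩, List.forall_mem_cons.2 ⟨⟨⟨_, _, bd27⟩, ⟨_, _, rfl, ch27, sg27, rfl⟩, ⟨_, _, cm27⟩, ⟨_, _, _, _, fo27⟩, ⟨_, _, qa27⟩, ⟨_, _, qb27⟩⟩, 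
  List.forall_mem_cons.2 ⟨⟨⟨_, _, bd28⟩, ⟨_, _, rfl, ch28, sg28, rfl⟩, ⟨_, _, cm28⟩, ⟨_, _, _, _, fo28⟩, ⟨_, _, qa28⟩, ⟨_, _, qb28⟩⟩, List.forall_mem_cons.2 ⟨⟨⟨_, _, bd29⟩, ⟨_, _, rfl, ch29, sg29, rfl⟩, ⟨_, _, cm29⟩, ⟨_, _, _, _, fo29⟩, ⟨_, _, qa29⟩, ⟨_, _, qb29⟩⟩, List.forall_mem_cons.2 ⟨⟨⟨_, _, bd30⟩, ⟨_, _, rfl, ch30, sg30, rfl⟩, ⟨_, _, cm30⟩, ⟨_, _, _, _, fo30⟩, ⟨_, _, qa30⟩, ⟨_, _, qb30⟩⟩, List.forall_mem_cons.2 ⟨⟨⟨_, _, bd31⟩, ⟨_, _, rfl, ch31, sg31, rfl⟩, ⟨_, _, cm31⟩, ⟨_, _, _, _, fo31⟩, ⟨_, _, qa31⟩, ⟨_, _, qb31⟩⟩, 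
  List.forall_mem_cons.2 ⟨⟨⟨_, _, bd32⟩, ⟨_, _, rfl, ch32, sg32, rfl⟩, ⟨_, _, cm32⟩, ⟨_, _, _, _, fo32⟩, ⟨_, _, qa32⟩, ⟨_, _, qb32⟩⟩, List.forall_mem_cons.2 ⟨⟨⟨_, _, bd33⟩, ⟨_, _, rfl, ch33, sg33, rfl⟩, ⟨_, _, cm33⟩, ⟨_, _, _, _, fo33⟩, ⟨_, _, qa33⟩, ⟨_, _, qb33⟩⟩, List.forall_mem_cons.2 ⟨⟨⟨_, _, bd34⟩, ⟨_, _, rfl, ch34, sg34, rfl⟩, ⟨_, _, cm34⟩, ⟨_, _, _, _, fo34⟩, ⟨_, _, qa34⟩, ⟨_, _, qb34⟩⟩, List.forall_mem_cons.2 ⟨⟨⟨_, _, bd35⟩, ⟨_, _, rfl, ch35, sg35, rfl⟩, ⟨_, _, cm35⟩, ⟨_, _, _, _, fo35⟩, ⟨_, _, qa35⟩, ⟨_, _, qb35⟩⟩, 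
  List.forall_mem_cons.2 ⟨⟨⟨_, _, bd36⟩, ⟨_, _, rfl, ch36, sg36, rfl⟩, ⟨_, _, cm36⟩, ⟨_, _, _, _, fo36⟩, ⟨_, _, qa36⟩, ⟨_, _, qb36⟩⟩, List.forall_mem_cons.2 ⟨⟨⟨_, _, bd37⟩, ⟨_, _, rfl, ch37, sg37, rfl⟩, ⟨_, _, cm37⟩, ⟨_, _, _, _, fo37⟩, ⟨_, _, qa37⟩, ⟨_, _, qb37⟩⟩, List.forall_mem_cons.2 ⟨⟨⟨_, _, bd38⟩, ⟨_, _, rfl, ch38, sg38, rfl⟩, ⟨_, _, cm38⟩, ⟨_, _, _, _, fo38⟩, ⟨_, _, qa38⟩, ⟨_, _, qb38⟩⟩, List.forall_mem_cons.2 ⟨⟨⟨_, _, bd39⟩, ⟨_, _, rfl, ch39, sg39, rfl⟩, ⟨_, _, cm39⟩, ⟨_, _, _, _, fo39⟩, ⟨_, _, qa39⟩, ⟨_, _, qb39⟩⟩, 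
  List.forall_mem_cons.2 ⟨⟨⟨_, _, bd40⟩, ⟨_, _, rfl, ch40, sg40, rfl⟩, ⟨_, _, cm40⟩, ⟨_, _, _, _, fo40⟩, ⟨_, _, qa40⟩, ⟨_, _, qb40⟩⟩, List.forall_mem_cons.2 ⟨⟨⟨_, _, bd41⟩, ⟨_, _, rfl, ch41, sg41, rfl⟩, ⟨_, _, cm41⟩, ⟨_, _, _, _, fo41⟩, ⟨_, _, qa41⟩, ⟨_, _, qb41⟩⟩, List.forall_mem_nil _⟩⟩⟩⟩⟩⟩⟩⟩⟩⟩⟩⟩⟩⟩⟩⟩⟩⟩⟩⟩⟩⟩⟩⟩⟩⟩⟩⟩⟩⟩⟩⟩⟩⟩⟩⟩⟩⟩⟩⟩⟩⟩

theorem D_nodup : (D.map fun x => x.2.2).Nodup := by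
  unfold D
  decide +kernel

theorem D_sum : Nat.ble 495766656000 ((D.map fun x => (2 * 495766656000) / (x.2.1 + 1)).sum) = true := by
  unfold D
  decide +kernel

/-- **the 42 classes** -/
theorem cov : Cov A2 N 10 D :=
  cover_J (K := 10) (row := row) (by norm_num) A_le (fun _ ha _ hx => A_conj ha hx) card_A D
    (fun x hx => by
      obtain ⟨a, b, h⟩ := (D_ok x hx).cm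
      obtain ⟨u, hu, v, hv, h1⟩ := exists_of_chkC tabs_ok h
      exact ⟨_, N.mul_mem (N.mul_mem (N.mul_mem hu hv) (N.inv_mem hu)) (N.inv_mem hv), h1⟩)
    (fun x hx => (D_ok x hx).bd) (Jx row key) (fun b hb r => Jx_conj (A_le hb) r)
    (fun x hx r hr => by
      obtain ⟨c, cs, e, h1, h2, h3⟩ := (D_ok x hx).sg
      rw [e]
      exact Jx_of (K := 10) (by norm_num) h1 h2 h3 hr)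
    D_nodup (by rw [card_N]; exact Nat.le_of_ble_eq_true D_sum)

theorem ore_N : ∀ g ∈ N, ∃ u ∈ N, ∃ v ∈ N, g = u * v * u⁻¹ * v⁻¹ :=
  comm_of_cover (fun _ ha _ hx => A_conj ha hx) cov fun x hx => by
    obtain ⟨a, b, h⟩ := (D_ok x hx).cm
    exact exists_of_chkC tabs_ok h

theorem four_N : ∀ g ∈ N, P4 N g :=
  p4_of_cover (fun _ ha _ hx => A_conj ha hx) cov fun x hx r hr hrp => by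
    obtain ⟨a, b, c, d, h⟩ := (D_ok x hx).fo
    exact p4_of tabs_ok base_ok h hr hrp

theorem pq23_N : ∀ g ∈ N, PQ N 23 g :=
  pq_of_cover (fun _ ha _ hx => A_conj ha hx) cov fun x hx r hr hrp => by
    obtain ⟨a, b, h⟩ := (D_ok x hx).qa
    exact pq_of tabs_ok base_ok h hr hrp

theorem pq11_N : ∀ g ∈ N, PQ N 11 g :=
  pq_of_cover (fun _ ha _ hx => A_conj ha hx) cov fun x hx r hr hrp => by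
    obtain ⟨a, b, h⟩ := (D_ok x hx).qb
    exact pq_of tabs_ok base_ok h hr hrp

/-- the isomorphism -/
noncomputable def eN : Spor.Co3 ≃* N :=
  Cfsg.Agent.SporRec.Co3.Model.equivCo3.symm.trans (MonoidHom.ofInjective ψ_injective)

/-- **the row `Co3` of the Ore conjecture (S2443)** -/
theorem ore_co3 {S : Type*} [Group S] (h : Spor.IsoCo3 S) : H777.Ore.AllC S := by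
  obtain ⟨e⟩ := h
  exact allC_of (e.trans eN) ore_N

/-- **the row `Co3` of S4171** -/
theorem four_co3 {S : Type*} [Group S] (h : Spor.IsoCo3 S) : H777.Ore.Inv4 S := by
  obtain ⟨e⟩ := h
  exact inv4_of (e.trans eN) four_N

/-- **the row `Co3` of S2465** -/
theorem pw_co3 {S : Type*} [Group S] (h : Spor.IsoCo3 S) : H78.Pw.Pw S := by
  obtain ⟨e⟩ := h
  exact pw_of (e.trans eN) (q := 23) (q' := 11) (by norm_num) (by norm_num) (by norm_num) (by norm_num) pq23_N pq11_N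

/-- **the row `Co3` of S2453** -/
theorem sq_co3 {S : Type*} [Group S] (h : Spor.IsoCo3 S) : H134.Sq.AllP 2 S := sq_of (pw_co3 h)

end Cfsg.Agent.H763.Co3.Fin
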