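import Cfsg.Agent.H763.Co3.Inv
import Cfsg.Agent.H970.Ore.Tab

/-!
# `Co3` on 552 points: the groups `N = Co3` and `A = 2 × Co3` of the class enumeration (helper763)

* `ψ : G3 →* Perm (Fin 552)`, `N = ψ.range`; `tabs_ok : Tabs 10 N gens`; `eq_one_of_base`: the points `0, 1, 4, 5, 26, 3` are
  a base of `N`;
* `σ`: the central symmetry, `A = N ⊔ ⟨σ⟩ ≤ Aut 552 row`, `A_conj`, `card_A`.
-/

set_option autoImplicit false
set_option maxRecDepth 100000

namespace Cfsg.Agent.H763.Co3.Model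

open Cfsg.Agent.H123.Cls Cfsg.Agent.H763.Co3.Dat Cfsg.Agent.H763.Co3.Inv Cfsg.Agent.Lib.BitNet
open Cfsg.Agent.Lib.BitNetSimple (force force_eq)
open Cfsg.Agent.SporRec.LeechMod3 Cfsg.Agent.SporRec.Co3.Chain Cfsg.Agent.SporRec.Co3.Ident
open Cfsg.Agent.H970.Ore.Tab (PT PT.one PT.mul pt0 e0 bs eq_of_pt)

/-! ### the hom -/

theorem rows_chk : allN (fun i => force (H317.RO.Co3Data.row i) fun R =>
    allN (fun j => Bool.rec true false (Nat.beq R (H317.RO.Co3Data.row j))) i) 552 = true := by decide +kernel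

theorem rows_ne {i j : ℕ} (hi : i < 552) (hj : j < i) : H317.RO.Co3Data.row i ≠ H317.RO.Co3Data.row j := by
  intro h
  have h1 := (allN_iff _ _).1 rows_chk i hi
  rw [force_eq] at h1
  have h2 := (allN_iff _ _).1 h1 j hj
  rw [h, Nat.beq_refl] at h2
  exact Bool.noConfusion h2

theorem idx_inj {i j : ℕ} (hi : i < 552) (hj : j < 552)
    (h : rv (H317.RO.Co3Data.row i) = rv (H317.RO.Co3Data.row j)) : i = j := by
  have h1 := H970.Ore.Tab.row_inj hi hj h
  rcases lt_trichotomy i j with h2 | h2 | h2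
  · exact absurd h1.symm (rows_ne hj h2)
  · exact h2
  · exact absurd h1 (rows_ne hi h2)

theorem fin_G3 : Finite G3 := Nat.finite_of_card_ne_zero (by rw [isCo3_G3.2]; norm_num)

theorem pt_el {k : ℕ} (hk : k < 8) : ∃ f, PT (⟨el k, (el_spec k hk).1⟩ : G3) f := by
  refine ⟨H970.Ore.Tab.lk k, ?_⟩
  have h := pt0 hk
  unfold e0 at h
  rwa [dif_pos hk] at h

theorem exists_PT (g : G3) : ∃ f : ℕ → ℕ, PT g f := by
  have := fin_G3
  have key : ∀ g ∈ Subgroup.closure (Set.range A ∪ {W0}), ∃ f : ℕ → ℕ, PT g f := by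
    intro g hg
    induction hg using Subgroup.closure_induction with
    | mem x hx =>
      rcases hx with ⟨i, rfl⟩ | hx
      · exact pt_el (k := i) (by omega)
      · rw [Set.mem_singleton_iff] at hx
        subst hx
        exact pt_el (k := 7) (by norm_num)
    | one => exact ⟨_, PT.one⟩
    | mul x y _ _ hx hy =>
      obtain ⟨f, hf⟩ := hx
      obtain ⟨f', hf'⟩ := hy
      exact ⟨_, hf.mul hf'⟩
    | inv x _ hx =>
      obtain ⟨f, hf⟩ := hx
      have h1 : ∀ n : ℕ, ∃ f, PT (x ^ n) f := by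
        intro n
        induction n with
        | zero => exact ⟨_, by rw [pow_zero]; exact PT.one⟩
        | succ n ih =>
          obtain ⟨f', hf'⟩ := ih
          exact ⟨_, by rw [pow_succ]; exact hf'.mul hf⟩
      have h2 : x⁻¹ = x ^ (orderOf x - 1) := by
        rw [inv_eq_iff_mul_eq_one, ← pow_succ', Nat.sub_add_cancel (orderOf_pos x), pow_orderOf_eq_one]
      rw [h2]
      exact h1 _
  exact key g (by rw [closure_top]; exact Subgroup.mem_top _)

theorem PT.unique {g : G3} {f f' : ℕ → ℕ} (h : PT g f) (h' : PT g f') {i : ℕ} (hi : i < 552) : f i = f' i := by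
  obtain ⟨h1, h2⟩ := h i hi
  obtain ⟨h3, h4⟩ := h' i hi
  exact idx_inj h1 h3 (h2.symm.trans h4)

/-- the image of a point -/
noncomputable def fn (g : G3) : ℕ → ℕ := (exists_PT g).choose

theorem fn_spec (g : G3) : PT g (fn g) := (exists_PT g).choose_spec

/-- the right action on the points -/
noncomputable def F (g : G3) (i : Fin 552) : Fin 552 := ⟨fn g i, (fn_spec g i i.2).1⟩

theorem F_of {g : G3} {f : ℕ → ℕ} (h : PT g f) (i : Fin 552) : (F g i : ℕ) = f i := PT.unique (fn_spec g) h i.2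

theorem F_one (i : Fin 552) : F 1 i = i := Fin.ext (F_of PT.one i)

theorem F_mul (g h : G3) (i : Fin 552) : F (g * h) i = F h (F g i) :=
  Fin.ext (F_of ((fn_spec g).mul (fn_spec h)) i)

/-- the action -/
noncomputable def ψ : G3 →* Equiv.Perm (Fin 552) where
  toFun g :=
    { toFun := F g⁻¹
      invFun := F g
      left_inv := fun i => by rw [← F_mul, inv_mul_cancel, F_one]
      right_inv := fun i => by rw [← F_mul, mul_inv_cancel, F_one] }
  map_one' := by
    ext i
    show (F (1 : G3)⁻¹ i : ℕ) = i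
    rw [inv_one, F_one]
  map_mul' g h := by
    ext i
    show (F (g * h)⁻¹ i : ℕ) = F g⁻¹ (F h⁻¹ i)
    rw [mul_inv_rev, F_mul]

theorem ψ_apply (g : G3) (i : Fin 552) : ψ g i = F g⁻¹ i := rfl

theorem ψ_inv_apply (g : G3) (i : Fin 552) : ψ g⁻¹ i = F g i := by rw [ψ_apply, inv_inv]

theorem one_of_base {g : G3} (h : ∀ b ∈ bs, fn g b = b) : g = 1 := eq_of_pt (fn_spec g) PT.one h

theorem ψ_injective : Function.Injective ψ := by
  rw [injective_iff_map_eq_one]
  intro g hg
  have h1 : ∀ i : Fin 552, F g⁻¹ i = i := fun i => by rw [← ψ_apply, hg]; rfl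
  have h2 : g⁻¹ = 1 := by
    apply one_of_base
    intro b hb
    have hb5 : b < 552 := by
      simp only [bs, List.mem_cons, List.not_mem_nil, or_false] at hb
      rcases hb with rfl | rfl | rfl | rfl | rfl | rfl <;> norm_num
    exact congrArg Fin.val (h1 ⟨b, hb5⟩)
  rwa [inv_eq_one] at h2

/-- the image of `Co3` -/
noncomputable def N : Subgroup (Equiv.Perm (Fin 552)) := ψ.range

theorem card_N : Nat.card N = 495766656000 := by
  rw [← isCo3_G3.2]
  exact Nat.card_congr (MonoidHom.ofInjective ψ_injective).toEquiv.symm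

theorem eq_one_of_base {g : Equiv.Perm (Fin 552)} (hg : g ∈ N)
    (h : ∀ b : Fin 552, (b : ℕ) ∈ [0, 1, 4, 5, 26, 3] → g b = b) : g = 1 := by
  obtain ⟨x, rfl⟩ := hg
  have h2 : x⁻¹ = 1 := by
    apply one_of_base
    intro b hb
    have hb5 : b < 552 := by
      simp only [bs, List.mem_cons, List.not_mem_nil, or_false] at hb
      rcases hb with rfl | rfl | rfl | rfl | rfl | rfl <;> norm_num
    exact congrArg Fin.val (h ⟨b, hb5⟩ hb)
  rw [inv_eq_one] at h2
  rw [h2, map_one]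

/-! ### tables -/

/-- the letters of `H970/Ore/Tab.lean` have the tables of `Dat.lean`, with inverses -/
theorem tab_chk : allN (fun k => allN (fun i => force (H970.Ore.Tab.lk k i) fun j =>
    band (Nat.beq j (lk 10 (nth gens k) i)) (Nat.beq (lk 10 (nth gens (Nat.add k 8)) j) i)) 552) 8 = true := by
  decide +kernel

theorem tab_of {k i : ℕ} (hk : k < 8) (hi : i < 552) :
    H970.Ore.Tab.lk k i = lk 10 (nth gens k) i ∧ lk 10 (nth gens (k + 8)) (H970.Ore.Tab.lk k i) = i := by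
  have h := (allN_iff _ _).1 ((allN_iff _ _).1 tab_chk k hk) i hi
  rw [force_eq] at h
  obtain ⟨h1, h2⟩ := band_true h
  exact ⟨Nat.eq_of_beq_eq_true h1, Nat.eq_of_beq_eq_true h2⟩

theorem ψ_e0_inv {k : ℕ} (hk : k < 8) (p : Fin 552) : (ψ (e0 k)⁻¹ p : ℕ) = lk 10 (nth gens k) p := by
  rw [ψ_inv_apply, F_of (pt0 hk), (tab_of hk p.2).1]

theorem ψ_e0 {k : ℕ} (hk : k < 8) (p : Fin 552) : (ψ (e0 k) p : ℕ) = lk 10 (nth gens (k + 8)) p := by
  obtain ⟨q, rfl⟩ : ∃ q, p = ψ (e0 k)⁻¹ q := ⟨ψ (e0 k) p, by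
    rw [map_inv]
    exact (Equiv.symm_apply_apply _ p).symm⟩
  have e : ψ (e0 k) (ψ (e0 k)⁻¹ q) = q := by
    rw [map_inv]
    exact Equiv.apply_symm_apply _ q
  rw [e, ψ_e0_inv hk, ← (tab_of hk q.2).1, (tab_of hk q.2).2]

theorem tabs_ok : Tabs 10 N gens := by
  intro x hx
  have hx' : x < 16 := hx
  rcases lt_or_ge x 8 with h | h
  · exact ⟨ψ (e0 x)⁻¹, ⟨_, rfl⟩, ψ_e0_inv h⟩
  · refine ⟨ψ (e0 (x - 8)), ⟨_, rfl⟩, fun p => ?_⟩
    rw [ψ_e0 (by omega), Nat.sub_add_cancel h]

/-! ### the central symmetry -/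

theorem ts_chk : allN (fun i => force (lk 10 ts i) fun j => band (Nat.blt j 552) (Nat.beq (lk 10 ts j) i)) 552 = true := by
  decide +kernel

theorem ts_spec {i : ℕ} (hi : i < 552) : lk 10 ts i < 552 ∧ lk 10 ts (lk 10 ts i) = i := by
  have h := (allN_iff _ _).1 ts_chk i hi
  rw [force_eq] at h
  obtain ⟨h1, h2⟩ := band_true h
  exact ⟨by rwa [Nat.blt_eq] at h1, Nat.eq_of_beq_eq_true h2⟩

/-- the central symmetry of the graph -/
noncomputable def σ : Equiv.Perm (Fin 552) where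
  toFun i := ⟨lk 10 ts i, (ts_spec i.2).1⟩
  invFun i := ⟨lk 10 ts i, (ts_spec i.2).1⟩
  left_inv i := Fin.ext (ts_spec i.2).2
  right_inv i := Fin.ext (ts_spec i.2).2

theorem σ_apply (i : Fin 552) : (σ i : ℕ) = lk 10 ts i := rfl

theorem σ_inv : σ⁻¹ = σ := rfl

theorem com_chk : allN (fun k => allN (fun i =>
    Nat.beq (lk 10 ts (lk 10 (nth gens k) i)) (lk 10 (nth gens k) (lk 10 ts i))) 552) 8 = true := by
  decide +kernel

theorem com_e0 {k : ℕ} (hk : k < 8) : σ * ψ (e0 k) = ψ (e0 k) * σ := by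
  have h : σ * ψ (e0 k)⁻¹ = ψ (e0 k)⁻¹ * σ := by
    ext i
    rw [Equiv.Perm.mul_apply, Equiv.Perm.mul_apply, σ_apply, ψ_e0_inv hk, ψ_e0_inv hk, σ_apply]
    exact Nat.eq_of_beq_eq_true ((allN_iff _ _).1 ((allN_iff _ _).1 com_chk k hk) i i.2)
  rw [map_inv] at h
  calc σ * ψ (e0 k) = ψ (e0 k) * ((ψ (e0 k))⁻¹ * σ) * ψ (e0 k) := by group
    _ = ψ (e0 k) * (σ * (ψ (e0 k))⁻¹) * ψ (e0 k) := by rw [h]
    _ = ψ (e0 k) * σ := by group

/-- a subgroup containing the letters -/
theorem mem_of_letters {K : Subgroup G3} (h : ∀ k < 8, e0 k ∈ K) (g : G3) : g ∈ K := by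
  have h1 : Subgroup.closure (Set.range A ∪ {W0}) ≤ K := by
    rw [Subgroup.closure_le]
    rintro x (⟨i, rfl⟩ | hx)
    · have h2 := h i (by omega)
      unfold e0 at h2
      rw [dif_pos (by omega)] at h2
      exact h2
    · rw [Set.mem_singleton_iff] at hx
      subst hx
      have h2 := h 7 (by norm_num)
      unfold e0 at h2
      rw [dif_pos (by omega)] at h2
      exact h2
  exact h1 (by rw [closure_top]; exact Subgroup.mem_top _)

theorem σ_comm (g : G3) : σ * ψ g = ψ g * σ := by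
  have h : g ∈ (Subgroup.centralizer {σ}).comap ψ := mem_of_letters (fun k hk => by
    rw [Subgroup.mem_comap, Subgroup.mem_centralizer_singleton_iff]
    exact (com_e0 hk).symm) g
  rw [Subgroup.mem_comap, Subgroup.mem_centralizer_singleton_iff] at h
  exact h.symm

theorem σ_ne : σ ≠ 1 := by
  intro h
  have h1 : (σ 0 : ℕ) = 0 := by rw [h]; rfl
  rw [σ_apply] at h1
  exact absurd h1 (by decide +kernel)

theorem σ_notMem : σ ∉ N := by
  rintro ⟨g, hg⟩
  have := isCo3_G3.1
  have h1 : g ∈ Subgroup.center G3 := by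
    rw [Subgroup.mem_center_iff]
    intro x
    apply ψ_injective
    rw [map_mul, map_mul, hg]
    exact (σ_comm x).symm
  have h2 : Subgroup.center G3 = ⊥ := by
    rcases (inferInstance : (Subgroup.center G3).Normal).eq_bot_or_eq_top with h3 | h3
    · exact h3
    · exfalso
      have h4 : ∀ a b : G3, a * b = b * a := fun a b => by
        have h5 : b ∈ Subgroup.center G3 := by rw [h3]; exact Subgroup.mem_top _
        exact Subgroup.mem_center_iff.1 h5 a
      have hfin := fin_G3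
      have h6 : (Nat.card G3).Prime := by
        letI : CommGroup G3 := { (inferInstance : Group G3) with mul_comm := h4 }
        exact IsSimpleGroup.prime_card
      rw [isCo3_G3.2] at h6
      exact absurd h6 (by norm_num)
  rw [h2, Subgroup.mem_bot] at h1
  apply σ_ne
  rw [← hg, h1, map_one]

/-- `2 × Co3` -/
noncomputable def A2 : Subgroup (Equiv.Perm (Fin 552)) := N ⊔ Subgroup.zpowers σ

theorem N_le_A : N ≤ A2 := le_sup_left

theorem aut_of {g : Equiv.Perm (Fin 552)} {P : ℕ} (hg : ∀ i : Fin 552, (g i : ℕ) = lk 10 P i) {L : Lib.PermNet.Net}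
    (h : chkA L P = true) : g ∈ Aut 552 row := by
  intro u v
  rw [hg, hg]
  exact chkA_spec h u.2 v.2

theorem e0_aut {k : ℕ} (hk : k < 8) : ψ (e0 k) ∈ Aut 552 row := by
  have h : ψ (e0 k)⁻¹ ∈ Aut 552 row := by
    interval_cases k
    · exact aut_of (ψ_e0_inv (by norm_num)) a0
    · exact aut_of (ψ_e0_inv (by norm_num)) a1
    · exact aut_of (ψ_e0_inv (by norm_num)) a2
    · exact aut_of (ψ_e0_inv (by norm_num)) a3
    · exact aut_of (ψ_e0_inv (by norm_num)) a4
    · exact aut_of (ψ_e0_inv (by norm_num)) a5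
    · exact aut_of (ψ_e0_inv (by norm_num)) a6
    · exact aut_of (ψ_e0_inv (by norm_num)) a7
  rw [map_inv] at h
  exact (Subgroup.inv_mem_iff _).1 h

theorem A_le : A2 ≤ Aut 552 row := by
  refine sup_le ?_ ?_
  · rintro _ ⟨g, rfl⟩
    have h : g ∈ (Aut 552 row).comap ψ := mem_of_letters (fun k hk => e0_aut hk) g
    exact h
  · rw [Subgroup.zpowers_le]
    exact aut_of σ_apply a8

theorem A_conj {a n : Equiv.Perm (Fin 552)} (ha : a ∈ A2) (hn : n ∈ N) : a * n * a⁻¹ ∈ N := by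
  have h : A2 ≤ Subgroup.normalizer (N : Set (Equiv.Perm (Fin 552))) := by
    refine sup_le Subgroup.le_normalizer ?_
    rw [Subgroup.zpowers_le, Subgroup.mem_normalizer_iff]
    have h1 : ∀ g ∈ N, σ * g * σ⁻¹ = g := by
      rintro _ ⟨x, rfl⟩
      rw [σ_comm, mul_inv_cancel_right]
    intro g
    refine ⟨fun hg => by rw [h1 g hg]; exact hg, fun hg => ?_⟩
    have h2 := h1 _ hg
    have h3 : σ⁻¹ * (σ * (σ * g * σ⁻¹) * σ⁻¹) * σ = σ * g * σ⁻¹ := by group
    rw [h2] at h3
    have h4 : σ⁻¹ * (σ * g * σ⁻¹) * σ = g := by group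
    rw [h4] at h3
    rw [h3]
    exact hg
  exact (Subgroup.mem_normalizer_iff.1 (h ha) n).1 hn

theorem card_A : 2 * 495766656000 ≤ Nat.card A2 := by
  obtain ⟨k, hk⟩ := Subgroup.card_dvd_of_le N_le_A
  have h0 : 0 < Nat.card A2 := Nat.card_pos
  have h2 : k ≠ 0 := by
    rintro rfl
    omega
  have h3 : k ≠ 1 := by
    rintro rfl
    apply σ_notMem
    have h4 : N = A2 := Subgroup.eq_of_le_of_card_ge N_le_A (by rw [hk, mul_one])
    rw [h4]
    exact Subgroup.mem_sup_right (Subgroup.mem_zpowers _)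
  rw [hk, card_N, mul_comm]
  exact Nat.mul_le_mul_left _ (by omega)

end Cfsg.Agent.H763.Co3.Model
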