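import Cfsg.Agent.H763.Co3.Fin

/-!
# The 42 classes of `Co3` as words in the stabilizer `G3 ≤ Co0` of a vector of type 3 (helper763)

`wd l` : the product of the inverses of the letters `e0 k` (`H970/Ore/Tab.lean`; the `k`-th element has the code `gs0[k]`,
`SporRec/Co3/Ident.el_spec`). `words_cover` : every element of `G3` is conjugate in `G3` to one of the 42 commutators
`[wd y.1, wd y.2]`, `y ∈ W`.
-/

set_option autoImplicit false
set_option maxRecDepth 1000000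
set_option exponentiation.threshold 5000

namespace Cfsg.Agent.H763.Co3.Words

open Cfsg Cfsg.Agent.H123.Cls Cfsg.Agent.H763.Cls Cfsg.Agent.H763.Co3.Dat Cfsg.Agent.H763.Co3.Fin Cfsg.Agent.Lib.BitNet
open Cfsg.Agent.H763.Co3.Model (N A2 ψ ψ_injective ψ_e0_inv σ σ_comm)
open Cfsg.Agent.SporRec.Co3.Chain (G3)
open Cfsg.Agent.H970.Ore.Tab (e0)

/-- the value of a word (letters `k < 8`) : product of the inverses of the `e0 k` -/
noncomputable def wd (l : List ℕ) : G3 := (l.map fun k => (e0 k)⁻¹).prod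

theorem wd_nil : wd [] = 1 := rfl

theorem wd_cons (k : ℕ) (l : List ℕ) : wd (k :: l) = (e0 k)⁻¹ * wd l := by
  unfold wd
  rw [List.map_cons, List.prod_cons]

theorem ψ_wd : ∀ {l : List ℕ}, (∀ x ∈ l, x < 8) → ∀ p : Fin 552, (ψ (wd l) p : ℕ) = evw 10 gens l p
  | [], _, p => by
    rw [wd_nil, map_one]
    rfl
  | k :: l, h, p => by
    rw [wd_cons, map_mul, Equiv.Perm.mul_apply, ψ_e0_inv (h k List.mem_cons_self),
      ψ_wd (fun x hx => h x (List.mem_cons_of_mem _ hx)), evw_cons]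

/-- the words of the 42 classes -/
def W : List (List ℕ × List ℕ) := [([4], [3]),
  ([1], [1]),
  ([3, 0], [2, 4, 1]),
  ([6, 3], [4, 1, 5]),
  ([2, 4], [0, 3]),
  ([4, 3, 2], [3, 1]),
  ([3, 7], [4, 6]),
  ([2, 5], [7, 3]),
  ([2, 7], [3, 5]),
  ([7, 3], [7, 1]),
  ([2], [0, 7]),
  ([2, 7], [1, 0]),
  ([7, 3], [4, 7]),
  ([5, 0], [7, 2]),
  ([7, 2], [5, 0]),
  ([6, 2], [7, 5]),
  ([2, 1], [7, 3]),
  ([7, 1], [2, 7, 2, 4]),
  ([3], [4, 7]),
  ([7], [5, 4, 3]),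
  ([4], [3, 7]),
  ([1, 7], [3, 6, 2]),
  ([3, 6, 2], [1, 7]),
  ([6, 3], [7, 2]),
  ([2, 3, 5], [7]),
  ([7], [2, 3, 5]),
  ([7], [2, 1]),
  ([2], [3, 7]),
  ([7, 4], [4, 5]),
  ([7], [2, 5]),
  ([2, 5], [7]),
  ([7, 3], [2, 0]),
  ([0, 3], [2, 7]),
  ([7, 3], [1, 2, 6]),
  ([7], [3, 7, 6]),
  ([7], [5, 3]),
  ([4, 5], [3, 6]),
  ([4], [7]),
  ([0, 7], [5]),
  ([5, 2], [4]),
  ([4], [1]),
  ([2], [7])]

theorem W_lt : W.all (fun y => y.1.all (fun x => Nat.blt x 8) && y.2.all (fun x => Nat.blt x 8)) = true := by decide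

theorem W_lt' {y : List ℕ × List ℕ} (hy : y ∈ W) : (∀ x ∈ y.1, x < 8) ∧ ∀ x ∈ y.2, x < 8 := by
  have h := List.all_eq_true.1 W_lt y hy
  rw [Bool.and_eq_true] at h
  refine ⟨fun x hx => ?_, fun x hx => ?_⟩
  · have h1 := List.all_eq_true.1 h.1 x hx
    rwa [Nat.blt_eq] at h1
  · have h1 := List.all_eq_true.1 h.2 x hx
    rwa [Nat.blt_eq] at h1

theorem D_W : List.Forall₂ (fun x y => chkC 552 10 gens x.1 y.1 y.2 = true) D W :=
  .cons cm0 (.cons cm1 (.cons cm2 (.cons cm3 (.cons cm4 (.cons cm5 (.cons cm6 (.cons cm7 (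
  .cons cm8 (.cons cm9 (.cons cm10 (.cons cm11 (.cons cm12 (.cons cm13 (.cons cm14 (.cons cm15 (
  .cons cm16 (.cons cm17 (.cons cm18 (.cons cm19 (.cons cm20 (.cons cm21 (.cons cm22 (.cons cm23 (
  .cons cm24 (.cons cm25 (.cons cm26 (.cons cm27 (.cons cm28 (.cons cm29 (.cons cm30 (.cons cm31 (
  .cons cm32 (.cons cm33 (.cons cm34 (.cons cm35 (.cons cm36 (.cons cm37 (.cons cm38 (.cons cm39 (
  .cons cm40 (.cons cm41 (.nil))))))))))))))))))))))))))))))))))))))))))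

theorem exists_of_forall {α β : Type*} {R : α → β → Prop} {l : List α} {m : List β} (h : List.Forall₂ R l m) :
    ∀ x ∈ l, ∃ y ∈ m, R x y := by
  induction h with
  | nil => intro x hx; exact absurd hx List.not_mem_nil
  | cons h _ ih =>
    intro x hx
    rcases List.mem_cons.1 hx with rfl | hx
    · exact ⟨_, List.mem_cons_self, h⟩
    · obtain ⟨y, hy, h1⟩ := ih x hx
      exact ⟨y, List.mem_cons_of_mem _ hy, h1⟩

theorem comm_tab {n w P : ℕ} {tabs a b : List ℕ} (h : chkC n w tabs P a b = true) {x y : Equiv.Perm (Fin n)}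
    (hxp : ∀ p : Fin n, (x p : ℕ) = evw w tabs a p) (hyp : ∀ p : Fin n, (y p : ℕ) = evw w tabs b p) (p : Fin n) :
    ((x * y * x⁻¹ * y⁻¹) p : ℕ) = lk w P p := by
  obtain ⟨h1, h2⟩ := band_true h
  obtain ⟨h3, h4⟩ := band_true h2
  obtain ⟨q, rfl⟩ : ∃ q, p = y (x q) := ⟨x⁻¹ (y⁻¹ p), by
    show p = y (x (x⁻¹ (y⁻¹ p)))
    rw [show x (x⁻¹ (y⁻¹ p)) = y⁻¹ p from Equiv.apply_symm_apply x _]
    exact (Equiv.apply_symm_apply y _).symm⟩
  have h5 := (allN_iff _ _).1 h4 q q.2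
  rw [Lib.BitNetSimple.force_eq, Lib.BitNetSimple.force_eq, Lib.BitNetSimple.force_eq] at h5
  have h6 := Nat.eq_of_beq_eq_true h5
  rw [← hxp, ← hyp, ← hyp, ← hxp] at h6
  rw [h6]
  have e : (x * y * x⁻¹ * y⁻¹) (y (x q)) = x (y q) := by
    show x (y (x⁻¹ (y⁻¹ (y (x q))))) = x (y q)
    rw [show y⁻¹ (y (x q)) = x q from Equiv.symm_apply_apply y _]
    rw [show x⁻¹ (x q) = q from Equiv.symm_apply_apply x _]
  rw [e]

/-- the elements acting on `ψ G3` as inner automorphisms -/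
def inn : Subgroup (Equiv.Perm (Fin 552)) where
  carrier := {b | ∃ u : G3, ∀ g : G3, b * ψ g * b⁻¹ = ψ (u * g * u⁻¹)}
  mul_mem' := by
    rintro a b ⟨u, hu⟩ ⟨v, hv⟩
    refine ⟨u * v, fun g => ?_⟩
    rw [show a * b * ψ g * (a * b)⁻¹ = a * (b * ψ g * b⁻¹) * a⁻¹ by group, hv, hu,
      show u * (v * g * v⁻¹) * u⁻¹ = u * v * g * (u * v)⁻¹ by group]
  one_mem' := ⟨1, fun g => by simp⟩
  inv_mem' := by
    rintro a ⟨u, hu⟩
    refine ⟨u⁻¹, fun g => ?_⟩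
    have h := hu (u⁻¹ * g * u)
    rw [show u * (u⁻¹ * g * u) * u⁻¹ = g by group] at h
    rw [← h, inv_inv, inv_inv]
    generalize ψ (u⁻¹ * g * u) = t
    group

/-- conjugation by an element of `2 × Co3` is conjugation by an element of `Co3` -/
theorem conj_A {b : Equiv.Perm (Fin 552)} (hb : b ∈ A2) : ∃ u : G3, ∀ g : G3, b * ψ g * b⁻¹ = ψ (u * g * u⁻¹) := by
  have h : A2 ≤ inn := by
    refine sup_le ?_ ?_
    · rintro _ ⟨u, rfl⟩
      exact ⟨u, fun g => by rw [map_mul, map_mul, map_inv]⟩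
    · rw [Subgroup.zpowers_le]
      exact ⟨1, fun g => by rw [σ_comm, mul_inv_cancel_right, inv_one, mul_one, one_mul]⟩
  exact h hb

/-- **the 42 classes of `Co3`**, as words in the stabilizer of a vector of type 3 -/
theorem words_cover (g : G3) : ∃ y ∈ W, ∃ u : G3, g = u * (wd y.1 * wd y.2 * (wd y.1)⁻¹ * (wd y.2)⁻¹) * u⁻¹ := by
  obtain ⟨x, hx, r, -, hr, b, hb, h⟩ := cov (ψ g) ⟨g, rfl⟩
  obtain ⟨y, hy, hxy⟩ := exists_of_forall D_W x hx
  obtain ⟨u, hu⟩ := conj_A hb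
  obtain ⟨h1, h2⟩ := W_lt' hy
  refine ⟨y, hy, u, ψ_injective ?_⟩
  have hr' : r = ψ (wd y.1 * wd y.2 * (wd y.1)⁻¹ * (wd y.2)⁻¹) := by
    rw [map_mul, map_mul, map_mul, map_inv, map_inv]
    exact perm_eq_of_tab hr (comm_tab hxy (ψ_wd h1) (ψ_wd h2))
  rw [h, hr', hu]

end Cfsg.Agent.H763.Co3.Words
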